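import Mathlib
import Cfsg.Agent.Lib.Helper28.SLGen

set_option autoImplicit false

namespace Cfsg.Agent.Lib.Helper3

open Matrix Matrix.SpecialLinearGroup
open scoped commutatorElement

/-- Induction principle: the special linear group is generated by elementary transvections. -/
theorem sl_transvection_induction {ι : Type*} [Fintype ι] [DecidableEq ι] [Nontrivial ι]
    {F : Type*} [Field F] (P : SpecialLinearGroup ι F → Prop)
    (htransvec : ∀ (i j : ι) (hij : i ≠ j) (a : F), P (SpecialLinearGroup.transvection hij a))
    (hmul : ∀ A B, P A → P B → P (A * B)) (M : SpecialLinearGroup ι F) : P M := by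
  refine diagonal_transvection_induction' P M (fun i j hij c hc => ?_) htransvec hmul
  rw [Cfsg.Agent.Lib.Helper28.diag2n_decomp hij c hc]
  refine hmul _ _ (hmul _ _ (hmul _ _ (hmul _ _ (hmul _ _ ?_ ?_) ?_) ?_) ?_) ?_
  all_goals exact htransvec _ _ _ _

/-- Commutator of two elementary transvections with a common middle index. -/
theorem transvection_commutator {ι : Type*} [Fintype ι] [DecidableEq ι] {F : Type*} [Field F]
    {i j k : ι} (hij : i ≠ j) (hik : i ≠ k) (hkj : k ≠ j) (a b : F) :
    ⁅SpecialLinearGroup.transvection hik a, SpecialLinearGroup.transvection hkj b⁆ =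
      SpecialLinearGroup.transvection hij (a * b) := by
  rw [commutatorElement_def, transvection_inv, transvection_inv]
  apply coeMonoidHom_injective
  simp only [map_mul, coeMonoidHom_apply, transvection_coe]
  have e1 : ∀ (c d : F), single i k c * single i k d = 0 :=
    fun c d => single_mul_single_of_ne c i k i hik.symm d
  have e2 : ∀ (c d : F), single i k c * single k j d = single i j (c * d) :=
    fun c d => single_mul_single_same c i k j d
  have e3 : ∀ (c d : F), single k j c * single i k d = 0 :=
    fun c d => single_mul_single_of_ne c k j i hij.symm d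
  have e4 : ∀ (c d : F), single k j c * single k j d = 0 :=
    fun c d => single_mul_single_of_ne c k j k hkj.symm d
  have e5 : ∀ (c d : F), single i j c * single i k d = 0 :=
    fun c d => single_mul_single_of_ne c i j i hij.symm d
  have e6 : ∀ (c d : F), single i j c * single k j d = 0 :=
    fun c d => single_mul_single_of_ne c i j k hkj.symm d
  simp only [mul_add, add_mul, mul_one, one_mul, e1, e2, e3, e4, e5, e6, add_zero]
  ext r s
  simp only [Matrix.add_apply, Matrix.single_apply]
  split_ifs <;> simp <;> ring

/-- For at least three indices, every elementary transvection is a commutator. -/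
theorem transvection_mem_commutator_of_three {ι : Type*} [Fintype ι] [DecidableEq ι] {F : Type*}
    [Field F] (h3 : 3 ≤ Fintype.card ι) {i j : ι} (hij : i ≠ j) (a : F) :
    SpecialLinearGroup.transvection hij a ∈ commutator (SpecialLinearGroup ι F) := by
  obtain ⟨k, hk⟩ : ∃ k : ι, k ∉ ({i, j} : Finset ι) := by
    by_contra hcon
    push Not at hcon
    have : Fintype.card ι ≤ ({i, j} : Finset ι).card := by
      rw [← Finset.card_univ]
      exact Finset.card_le_card (fun x _ => hcon x)
    have h2 : ({i, j} : Finset ι).card ≤ 2 := Finset.card_le_two
    omega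
  simp only [Finset.mem_insert, Finset.mem_singleton, not_or] at hk
  have hik : i ≠ k := fun h => hk.1 h.symm
  have hkj : k ≠ j := hk.2
  have := transvection_commutator hij hik hkj a 1
  rw [mul_one] at this
  rw [← this]
  exact Subgroup.commutator_mem_commutator (Subgroup.mem_top _) (Subgroup.mem_top _)

/-- The special linear group on at least three indices is perfect. -/
theorem sl_commutator_eq_top {ι : Type*} [Fintype ι] [DecidableEq ι] {F : Type*}
    [Field F] (h3 : 3 ≤ Fintype.card ι) : commutator (SpecialLinearGroup ι F) = ⊤ := by
  have : Nontrivial ι := by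
    rw [← Fintype.one_lt_card_iff_nontrivial]
    omega
  exact le_antisymm le_top (fun A _ => sl_transvection_induction _
    (fun i j hij a => transvection_mem_commutator_of_three h3 hij a) (fun _ _ => mul_mem) A)

end Cfsg.Agent.Lib.Helper3
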