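import Mathlib
import Cfsg.Agent.Lib.Helper3.SLn

/-!
# General transvections in special linear groups

The elements `1 + u φᵀ` with `φ u = 0` of `SL`, their conjugacy to elementary transvections
in dimension at least three, and the products of two of them.
-/

set_option autoImplicit false

namespace Cfsg.Agent.Lib.Helper3

open Matrix Polynomial

section GTV

variable {ι : Type*} [Fintype ι] [DecidableEq ι] {F : Type*} [Field F]

/-- The general transvection `1 + u φᵀ` with `φ u = 0`, as an element of `SL`. -/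
def gtv (u φ : ι → F) (h : φ ⬝ᵥ u = 0) : Matrix.SpecialLinearGroup ι F :=
  ⟨1 + vecMulVec u φ, by
    rw [vecMulVec_eq (Fin 1), det_one_add_replicateCol_mul_replicateRow, h, add_zero]⟩

theorem gtv_coe (u φ : ι → F) (h : φ ⬝ᵥ u = 0) :
    ((gtv u φ h : Matrix.SpecialLinearGroup ι F) : Matrix ι ι F) = 1 + vecMulVec u φ := rfl

theorem gtv_mulVec (w ψ : ι → F) (h : ψ ⬝ᵥ w = 0) (x : ι → F) :
    ((gtv w ψ h : Matrix.SpecialLinearGroup ι F) : Matrix ι ι F) *ᵥ x = x + (ψ ⬝ᵥ x) • w := by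
  rw [gtv_coe, add_mulVec, one_mulVec, vecMulVec_mulVec, op_smul_eq_smul]

theorem vecMul_gtv (w ψ : ι → F) (h : ψ ⬝ᵥ w = 0) (x : ι → F) :
    x ᵥ* ((gtv w ψ h : Matrix.SpecialLinearGroup ι F) : Matrix ι ι F) = x + (x ⬝ᵥ w) • ψ := by
  rw [gtv_coe, vecMul_add, vecMul_one, vecMul_vecMulVec]

theorem sl_mulVec_ne_zero (g : Matrix.SpecialLinearGroup ι F) {x : ι → F} (hx : x ≠ 0) :
    (g : Matrix ι ι F) *ᵥ x ≠ 0 := by
  intro h0
  apply hx
  have h1 : ((g⁻¹ : Matrix.SpecialLinearGroup ι F) : Matrix ι ι F) *ᵥ ((g : Matrix ι ι F) *ᵥ x) = x := by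
    rw [mulVec_mulVec, ← Matrix.SpecialLinearGroup.coe_mul, inv_mul_cancel, Matrix.SpecialLinearGroup.coe_one,
      one_mulVec]
  rw [← h1, h0, mulVec_zero]

theorem sl_vecMul_ne_zero (g : Matrix.SpecialLinearGroup ι F) {x : ι → F} (hx : x ≠ 0) :
    x ᵥ* (g : Matrix ι ι F) ≠ 0 := by
  intro h0
  apply hx
  have h1 : (x ᵥ* (g : Matrix ι ι F)) ᵥ* ((g⁻¹ : Matrix.SpecialLinearGroup ι F) : Matrix ι ι F) = x := by
    rw [vecMul_vecMul, ← Matrix.SpecialLinearGroup.coe_mul, mul_inv_cancel, Matrix.SpecialLinearGroup.coe_one,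
      vecMul_one]
  rw [← h1, h0, zero_vecMul]

/-- If `k u' = u` and `φ k = φ'` then `1 + u φᵀ` is the conjugate by `k` of `1 + u' φ'ᵀ`. -/
theorem gtv_conj_of (k : Matrix.SpecialLinearGroup ι F) (u φ u' φ' : ι → F) (h : φ ⬝ᵥ u = 0)
    (h' : φ' ⬝ᵥ u' = 0) (h1 : (k : Matrix ι ι F) *ᵥ u' = u) (h2 : φ ᵥ* (k : Matrix ι ι F) = φ') :
    gtv u φ h = k * gtv u' φ' h' * k⁻¹ := by
  rw [eq_mul_inv_iff_mul_eq]
  apply Subtype.ext
  simp only [Matrix.SpecialLinearGroup.coe_mul, gtv_coe]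
  rw [add_mul, mul_add, one_mul, mul_one, vecMulVec_mul, mul_vecMulVec, h1, h2]

theorem dot_conj_of (k : Matrix.SpecialLinearGroup ι F) (u φ u' φ' : ι → F) (h : φ ⬝ᵥ u = 0)
    (h1 : (k : Matrix ι ι F) *ᵥ u' = u) (h2 : φ ᵥ* (k : Matrix ι ι F) = φ') : φ' ⬝ᵥ u' = 0 := by
  rw [← h2, ← dotProduct_mulVec, h1, h]

/-- The conjugate of a general transvection. -/
theorem conj_gtv (g : Matrix.SpecialLinearGroup ι F) (u φ : ι → F) (h : φ ⬝ᵥ u = 0) :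
    ∃ h' : (φ ᵥ* ((g⁻¹ : Matrix.SpecialLinearGroup ι F) : Matrix ι ι F)) ⬝ᵥ ((g : Matrix ι ι F) *ᵥ u) = 0,
      g * gtv u φ h * g⁻¹ = gtv ((g : Matrix ι ι F) *ᵥ u) (φ ᵥ* ((g⁻¹ : Matrix.SpecialLinearGroup ι F) : Matrix ι ι F)) h' := by
  have h' : (φ ᵥ* ((g⁻¹ : Matrix.SpecialLinearGroup ι F) : Matrix ι ι F)) ⬝ᵥ ((g : Matrix ι ι F) *ᵥ u) = 0 := by
    rw [← dotProduct_mulVec, mulVec_mulVec, ← Matrix.SpecialLinearGroup.coe_mul, inv_mul_cancel,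
      Matrix.SpecialLinearGroup.coe_one, one_mulVec, h]
  refine ⟨h', ?_⟩
  symm
  apply gtv_conj_of g _ _ u φ h' h rfl
  rw [vecMul_vecMul, ← Matrix.SpecialLinearGroup.coe_mul, inv_mul_cancel, Matrix.SpecialLinearGroup.coe_one,
    vecMul_one]

theorem gtv_ne_one (u φ : ι → F) (h : φ ⬝ᵥ u = 0) (hu : u ≠ 0) (hφ : φ ≠ 0) :
    gtv u φ h ≠ 1 := by
  intro h1
  have h2 := congrArg Subtype.val h1
  rw [gtv_coe, Matrix.SpecialLinearGroup.coe_one, add_eq_left] at h2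
  exact vecMulVec_ne_zero hu hφ h2

/-- The part `N` of the product `(1 + u φᵀ)(1 + v ψᵀ) = 1 + N`. -/
def gtvN (u φ v ψ : ι → F) : Matrix ι ι F :=
  vecMulVec u φ + vecMulVec v ψ + (φ ⬝ᵥ v) • vecMulVec u ψ

theorem gtv_mul_coe (u φ v ψ : ι → F) (h1 : φ ⬝ᵥ u = 0) (h2 : ψ ⬝ᵥ v = 0) :
    ((gtv u φ h1 * gtv v ψ h2 : Matrix.SpecialLinearGroup ι F) : Matrix ι ι F) = 1 + gtvN u φ v ψ := by
  rw [Matrix.SpecialLinearGroup.coe_mul, gtv_coe, gtv_coe, gtvN, add_mul, one_mul, mul_add, mul_one,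
    vecMulVec_mul_vecMulVec, vecMulVec_smul]
  abel

theorem gtvN_sq (u φ v ψ : ι → F) (h1 : φ ⬝ᵥ u = 0) (h2 : ψ ⬝ᵥ v = 0) :
    gtvN u φ v ψ * gtvN u φ v ψ = ((φ ⬝ᵥ v) * (ψ ⬝ᵥ u)) • gtvN u φ v ψ
      + ((φ ⬝ᵥ v) • vecMulVec u ψ + (ψ ⬝ᵥ u) • vecMulVec v φ) := by
  simp only [gtvN, add_mul, mul_add, smul_mul_assoc, mul_smul_comm, vecMulVec_mul_vecMulVec,
    vecMulVec_smul, h1, h2, zero_smul, vecMulVec_zero, smul_zero, add_zero, zero_add, smul_add,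
    smul_smul]
  module

theorem gtvN_mul_S (u φ v ψ : ι → F) (h1 : φ ⬝ᵥ u = 0) (h2 : ψ ⬝ᵥ v = 0) :
    gtvN u φ v ψ * ((φ ⬝ᵥ v) • vecMulVec u ψ + (ψ ⬝ᵥ u) • vecMulVec v φ)
      = ((φ ⬝ᵥ v) * (ψ ⬝ᵥ u)) • gtvN u φ v ψ := by
  simp only [gtvN, add_mul, mul_add, smul_mul_assoc, mul_smul_comm, vecMulVec_mul_vecMulVec,
    vecMulVec_smul, h1, h2, zero_smul, vecMulVec_zero, smul_zero, add_zero, zero_add, smul_add,
    smul_smul]
  module

theorem gtvN_cube (u φ v ψ : ι → F) (h1 : φ ⬝ᵥ u = 0) (h2 : ψ ⬝ᵥ v = 0) :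
    gtvN u φ v ψ ^ 3 = ((φ ⬝ᵥ v) * (ψ ⬝ᵥ u)) • gtvN u φ v ψ ^ 2
      + ((φ ⬝ᵥ v) * (ψ ⬝ᵥ u)) • gtvN u φ v ψ := by
  rw [pow_succ, pow_two, mul_assoc, gtvN_sq u φ v ψ h1 h2, mul_add, mul_smul_comm,
    gtvN_mul_S u φ v ψ h1 h2, gtvN_sq u φ v ψ h1 h2]

theorem gtv_comm (u φ v ψ : ι → F) (h1 : φ ⬝ᵥ u = 0) (h2 : ψ ⬝ᵥ v = 0) (hα : φ ⬝ᵥ v = 0)
    (hβ : ψ ⬝ᵥ u = 0) : gtv u φ h1 * gtv v ψ h2 = gtv v ψ h2 * gtv u φ h1 := by
  apply Subtype.ext
  rw [gtv_mul_coe, gtv_mul_coe, gtvN, gtvN, hα, hβ, zero_smul, zero_smul, add_zero, add_zero,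
    add_comm (vecMulVec u φ)]

end GTV

section Char2

variable {ι : Type*} [Fintype ι] [DecidableEq ι] {F : Type*} [Field F] [CharP F 2]

theorem mat_add_self (X : Matrix ι ι F) : X + X = 0 := by
  rw [← two_smul F X, CharTwo.two_eq_zero, zero_smul]

theorem one_add_sq (N : Matrix ι ι F) : (1 + N) ^ 2 = 1 + N * N := by
  rw [pow_two, add_mul, one_mul, mul_add, mul_one]
  have := mat_add_self N
  rw [add_assoc, ← add_assoc N N, this, zero_add]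

theorem gtv_sq (u φ : ι → F) (h : φ ⬝ᵥ u = 0) : gtv u φ h ^ 2 = 1 := by
  apply Subtype.ext
  rw [Matrix.SpecialLinearGroup.coe_pow, gtv_coe, one_add_sq, vecMulVec_mul_vecMulVec, h, zero_smul,
    vecMulVec_zero, add_zero, Matrix.SpecialLinearGroup.coe_one]

theorem gtv_orderOf (u φ : ι → F) (h : φ ⬝ᵥ u = 0) (hu : u ≠ 0) (hφ : φ ≠ 0) :
    orderOf (gtv u φ h) = 2 :=
  orderOf_eq_prime (gtv_sq u φ h) (gtv_ne_one u φ h hu hφ)

/-- The square of the product of two transvections when `ψ u = 0`. -/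
theorem gtv_mul_sq_left (u φ v ψ : ι → F) (h1 : φ ⬝ᵥ u = 0) (h2 : ψ ⬝ᵥ v = 0)
    (hβ : ψ ⬝ᵥ u = 0) :
    ∃ h3 : ψ ⬝ᵥ ((φ ⬝ᵥ v) • u) = 0,
      (gtv u φ h1 * gtv v ψ h2) ^ 2 = gtv ((φ ⬝ᵥ v) • u) ψ h3 := by
  have h3 : ψ ⬝ᵥ ((φ ⬝ᵥ v) • u) = 0 := by rw [dotProduct_smul, hβ, smul_zero]
  refine ⟨h3, ?_⟩
  apply Subtype.ext
  rw [Matrix.SpecialLinearGroup.coe_pow, gtv_mul_coe, one_add_sq, gtvN_sq u φ v ψ h1 h2, hβ, mul_zero,
    zero_smul, zero_smul, zero_add, add_zero, gtv_coe, smul_vecMulVec]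

/-- The square of the product of two transvections when `φ v = 0`. -/
theorem gtv_mul_sq_right (u φ v ψ : ι → F) (h1 : φ ⬝ᵥ u = 0) (h2 : ψ ⬝ᵥ v = 0)
    (hα : φ ⬝ᵥ v = 0) :
    ∃ h3 : φ ⬝ᵥ ((ψ ⬝ᵥ u) • v) = 0,
      (gtv u φ h1 * gtv v ψ h2) ^ 2 = gtv ((ψ ⬝ᵥ u) • v) φ h3 := by
  have h3 : φ ⬝ᵥ ((ψ ⬝ᵥ u) • v) = 0 := by rw [dotProduct_smul, hα, smul_zero]
  refine ⟨h3, ?_⟩
  apply Subtype.ext
  rw [Matrix.SpecialLinearGroup.coe_pow, gtv_mul_coe, one_add_sq, gtvN_sq u φ v ψ h1 h2, hα, zero_mul,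
    zero_smul, zero_smul, zero_add, zero_add, gtv_coe, smul_vecMulVec]

theorem orderOf_eq_four_of_sq {G : Type*} [Group G] (y z : G) (hy : y ^ 2 = z) (hz : z ^ 2 = 1)
    (hz1 : z ≠ 1) : orderOf y = 4 := by
  have : Fact (Nat.Prime 2) := ⟨Nat.prime_two⟩
  have h1 : ¬ y ^ 2 ^ 1 = 1 := by
    rw [pow_one, hy]
    exact hz1
  have h2 : y ^ 2 ^ (1 + 1) = 1 := by
    have : (2 : ℕ) ^ (1 + 1) = 2 * 2 := by norm_num
    rw [this, pow_mul, hy, hz]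
  exact orderOf_eq_prime_pow h1 h2

/-- The polynomial `X³ + τ X² + τ X` is squarefree in characteristic two when `τ ≠ 0`. -/
theorem cubic_squarefree (τ : F) (hτ : τ ≠ 0) :
    Squarefree (X ^ 3 + C τ * X ^ 2 + C τ * X : F[X]) := by
  apply Separable.squarefree
  rw [separable_def]
  have h2F : ((2 : ℕ) : F) = 0 := by
    have h := CharTwo.two_eq_zero (R := F)
    exact_mod_cast h
  have h3F : ((3 : ℕ) : F) = 1 := by
    have h : ((3 : ℕ) : F) = ((2 : ℕ) : F) + 1 := by norm_num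
    rw [h, h2F, zero_add]
  have h2 : (2 : F[X]) = 0 := by
    have h : (C ((2 : ℕ) : F) : F[X]) = 0 := by rw [h2F, C_0]
    have h' : (C ((2 : ℕ) : F) : F[X]) = 2 := by
      rw [map_natCast]
      norm_num
    rw [← h', h]
  have hd : derivative (X ^ 3 + C τ * X ^ 2 + C τ * X : F[X]) = X ^ 2 + C τ := by
    simp only [derivative_add, derivative_X_pow, derivative_mul, derivative_C, zero_mul,
      zero_add, derivative_X, mul_one]
    rw [h3F, h2F]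
    simp
  rw [hd]
  refine ⟨C (τ⁻¹ ^ 2), C (τ⁻¹ ^ 2) * (X + C τ), ?_⟩
  have h4 : (C (τ⁻¹ ^ 2) * C (τ ^ 2) : F[X]) = 1 := by
    rw [← C_mul, ← mul_pow, inv_mul_cancel₀ hτ, one_pow, C_1]
  have h5 : (C (τ ^ 2) : F[X]) = C τ ^ 2 := C_pow
  rw [h5] at h4
  linear_combination h4 + C (τ⁻¹ ^ 2) * (X ^ 3 + C τ * X ^ 2 + C τ * X) * h2

/-- A matrix `1 + N` with `N³ = τ N² + τ N`, `τ ≠ 0`, in characteristic two: if its `2k`-th
power is `1` then so is its `k`-th power. -/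
theorem pow_eq_one_of_cubic (N : Matrix ι ι F) (τ : F) (hτ : τ ≠ 0)
    (hN : N ^ 3 = τ • N ^ 2 + τ • N) (k : ℕ) (hk : (1 + N) ^ (2 * k) = 1) :
    (1 + N) ^ k = 1 := by
  have hQ : aeval N (X ^ 3 + C τ * X ^ 2 + C τ * X : F[X]) = 0 := by
    simp only [map_add, map_mul, map_pow, aeval_X, aeval_C, Algebra.algebraMap_eq_smul_one,
      smul_mul_assoc, one_mul]
    rw [hN]
    have := mat_add_self (τ • N ^ 2 + τ • N)
    rw [← add_assoc] at this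
    exact this
  have hg : aeval N ((X + 1) ^ k - 1 : F[X]) = (1 + N) ^ k - 1 := by
    simp only [map_sub, map_pow, map_add, aeval_X, map_one]
    rw [add_comm]
  have hg2 : aeval N (((X + 1) ^ k - 1) ^ 2 : F[X]) = 0 := by
    rw [map_pow, hg, pow_two, sub_mul, mul_sub, mul_one, one_mul, ← pow_add, ← two_mul, hk]
    have h5 := mat_add_self ((1 + N) ^ k)
    have h1 := mat_add_self (1 : Matrix ι ι F)
    have h6 : 1 - (1 + N) ^ k - ((1 + N) ^ k - 1)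
        = (1 + 1) - ((1 + N) ^ k + (1 + N) ^ k) := by abel
    rw [h6, h1, h5, sub_zero]
  have hsq : Squarefree (minpoly F N) :=
    Squarefree.squarefree_of_dvd (minpoly.dvd F N hQ) (cubic_squarefree τ hτ)
  have hdvd : minpoly F N ∣ ((X + 1) ^ k - 1 : F[X]) :=
    (hsq.dvd_pow_iff_dvd (two_ne_zero)).1 (minpoly.dvd F N hg2)
  obtain ⟨r, hr⟩ := hdvd
  have h0 : aeval N ((X + 1) ^ k - 1 : F[X]) = 0 := by
    rw [hr, map_mul, minpoly.aeval, zero_mul]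
  rw [hg, sub_eq_zero] at h0
  exact h0

end Char2

section Fin3

variable {F : Type*} [Field F] {n : ℕ}

/-- The standard basis vectors. -/
def ev (F : Type*) [Field F] (n : ℕ) (i : Fin (n + 3)) : Fin (n + 3) → F := Pi.single i 1

theorem ev_apply (i j : Fin (n + 3)) : ev F n i j = if j = i then 1 else 0 := by
  rw [ev, Pi.single_apply]

theorem dot_ev_left (i : Fin (n + 3)) (x : Fin (n + 3) → F) : ev F n i ⬝ᵥ x = x i := by
  rw [ev, single_one_dotProduct]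

theorem dot_ev_right (i : Fin (n + 3)) (x : Fin (n + 3) → F) : x ⬝ᵥ ev F n i = x i := by
  rw [ev, dotProduct_single_one]

theorem ev_dot_ev (i j : Fin (n + 3)) (hij : i ≠ j) : ev F n i ⬝ᵥ ev F n j = 0 := by
  rw [dot_ev_left, ev_apply, if_neg hij]

theorem ev_ne_zero (i : Fin (n + 3)) : ev F n i ≠ 0 := by
  intro h
  have h1 := congrFun h i
  rw [ev_apply, if_pos rfl] at h1
  exact one_ne_zero h1

theorem fin3_one_ne_zero : (1 : Fin (n + 3)) ≠ 0 := by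
  intro h
  have := congrArg Fin.val h
  simp at this

theorem fin3_two_ne_zero : (2 : Fin (n + 3)) ≠ 0 := by
  intro h
  have h1 := congrArg Fin.val h
  rw [Fin.val_two, Fin.val_zero] at h1
  omega

theorem fin3_two_ne_one : (2 : Fin (n + 3)) ≠ 1 := by
  intro h
  have h1 := congrArg Fin.val h
  rw [Fin.val_two, Fin.val_one] at h1
  omega

/-- Membership in the class of transvections of `SL_{n+3}(F)`. -/
def IsTv (t : Matrix.SpecialLinearGroup (Fin (n + 3)) F) : Prop :=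
  ∃ c : F, c ≠ 0 ∧ ∃ g : Matrix.SpecialLinearGroup (Fin (n + 3)) F,
    ((g⁻¹ * t * g : Matrix.SpecialLinearGroup (Fin (n + 3)) F) :
      Matrix (Fin (n + 3)) (Fin (n + 3)) F) = Matrix.transvection 0 1 c

theorem tbase_h (c : F) : ev F n 1 ⬝ᵥ (c • ev F n 0) = 0 := by
  rw [dotProduct_smul, ev_dot_ev _ _ fin3_one_ne_zero, smul_zero]

/-- The elementary transvection `1 + c E₀₁`. -/
def tbase (c : F) : Matrix.SpecialLinearGroup (Fin (n + 3)) F :=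
  gtv (c • ev F n 0) (ev F n 1) (tbase_h c)

theorem tbase_coe (c : F) :
    ((tbase c : Matrix.SpecialLinearGroup (Fin (n + 3)) F) : Matrix (Fin (n + 3)) (Fin (n + 3)) F)
      = Matrix.transvection 0 1 c := by
  rw [tbase, gtv_coe, Matrix.transvection]
  congr 1
  ext i j
  simp only [vecMulVec_apply, Pi.smul_apply, ev_apply, smul_eq_mul, Matrix.single_apply]
  by_cases hi : i = 0 <;> by_cases hj : j = 1 <;> simp [hi, hj, eq_comm]

theorem isTv_iff (t : Matrix.SpecialLinearGroup (Fin (n + 3)) F) :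
    IsTv t ↔ ∃ c : F, c ≠ 0 ∧ ∃ g : Matrix.SpecialLinearGroup (Fin (n + 3)) F,
      t = g * tbase c * g⁻¹ := by
  constructor
  · rintro ⟨c, hc, g, hg⟩
    refine ⟨c, hc, g, ?_⟩
    have h1 : g⁻¹ * t * g = tbase c := by
      apply Subtype.ext
      rw [hg, tbase_coe]
    rw [← h1]
    group
  · rintro ⟨c, hc, g, rfl⟩
    refine ⟨c, hc, g, ?_⟩
    have h1 : g⁻¹ * (g * tbase c * g⁻¹) * g = tbase c := by group
    rw [h1, tbase_coe]

theorem IsTv.conj {t : Matrix.SpecialLinearGroup (Fin (n + 3)) F} (ht : IsTv t)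
    (k : Matrix.SpecialLinearGroup (Fin (n + 3)) F) : IsTv (k * t * k⁻¹) := by
  rw [isTv_iff] at ht ⊢
  obtain ⟨c, hc, g, rfl⟩ := ht
  refine ⟨c, hc, k * g, ?_⟩
  group

theorem isTv_of_conj (k : Matrix.SpecialLinearGroup (Fin (n + 3)) F)
    (u φ u' φ' : Fin (n + 3) → F) (h : φ ⬝ᵥ u = 0)
    (h1 : (k : Matrix (Fin (n + 3)) (Fin (n + 3)) F) *ᵥ u' = u)
    (h2 : φ ᵥ* (k : Matrix (Fin (n + 3)) (Fin (n + 3)) F) = φ')
    (ht : ∀ h' : φ' ⬝ᵥ u' = 0, IsTv (gtv u' φ' h')) : IsTv (gtv u φ h) := by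
  have h' := dot_conj_of k u φ u' φ' h h1 h2
  rw [gtv_conj_of k u φ u' φ' h h' h1 h2]
  exact (ht h').conj k

theorem isTv_L1 (a c : F) (ha : a ≠ 0) (hc : c ≠ 0)
    (h : (c • ev F n 1) ⬝ᵥ (a • ev F n 0) = 0) :
    IsTv (gtv (a • ev F n 0) (c • ev F n 1) h) := by
  rw [isTv_iff]
  refine ⟨a * c, mul_ne_zero ha hc, 1, ?_⟩
  rw [one_mul, inv_one, mul_one]
  apply Subtype.ext
  rw [tbase, gtv_coe, gtv_coe, smul_vecMulVec, vecMulVec_smul, smul_vecMulVec, smul_smul]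

theorem isTv_L2 (a : F) (ha : a ≠ 0) (φ : Fin (n + 3) → F) (hφ0 : φ 0 = 0) (hφ1 : φ 1 ≠ 0)
    (h : φ ⬝ᵥ (a • ev F n 0) = 0) : IsTv (gtv (a • ev F n 0) φ h) := by
  obtain ⟨ψ, hψ⟩ : ∃ ψ : Fin (n + 3) → F, ψ = (φ 1)⁻¹ • (φ 1 • ev F n 1 - φ) := ⟨_, rfl⟩
  have hψ1 : ψ ⬝ᵥ ev F n 1 = 0 := by
    rw [dot_ev_right, hψ]
    simp [ev_apply]
  have hψ0 : ψ ⬝ᵥ ev F n 0 = 0 := by
    rw [dot_ev_right, hψ]
    simp [ev_apply, hφ0, fin3_one_ne_zero.symm]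
  apply isTv_of_conj (gtv (ev F n 1) ψ hψ1) (a • ev F n 0) φ (a • ev F n 0) (φ 1 • ev F n 1) h
  · rw [gtv_mulVec, dotProduct_smul, hψ0, smul_zero, zero_smul, add_zero]
  · rw [vecMul_gtv, dot_ev_right, hψ, smul_smul, mul_inv_cancel₀ hφ1, one_smul]
    abel
  · intro h'
    exact isTv_L1 a (φ 1) ha hφ1 h'

theorem isTv_L3 (a : F) (ha : a ≠ 0) (φ : Fin (n + 3) → F) (hφ0 : φ 0 = 0) (hφ : φ ≠ 0)
    (h : φ ⬝ᵥ (a • ev F n 0) = 0) : IsTv (gtv (a • ev F n 0) φ h) := by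
  by_cases hφ1 : φ 1 = 0
  · obtain ⟨k₀, hk₀⟩ : ∃ k₀, φ k₀ ≠ 0 := by
      by_contra hcon
      push Not at hcon
      exact hφ (funext hcon)
    have hk1 : k₀ ≠ 1 := by
      rintro rfl
      exact hk₀ hφ1
    have hd : ev F n 1 ⬝ᵥ ev F n k₀ = 0 := ev_dot_ev _ _ hk1.symm
    apply isTv_of_conj (gtv (ev F n k₀) (ev F n 1) hd) (a • ev F n 0) φ (a • ev F n 0)
      (φ + φ k₀ • ev F n 1) h
    · rw [gtv_mulVec, dotProduct_smul, ev_dot_ev _ _ fin3_one_ne_zero, smul_zero, zero_smul,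
        add_zero]
    · rw [vecMul_gtv, dot_ev_right]
    · intro h'
      apply isTv_L2 a ha _ ?_ ?_ h'
      · simp [ev_apply, hφ0, fin3_one_ne_zero.symm]
      · simp [ev_apply, hφ1, hk₀]
  · exact isTv_L2 a ha φ hφ0 hφ1 h

theorem isTv_L4 (u φ : Fin (n + 3) → F) (hu0 : u 0 ≠ 0) (hφ : φ ≠ 0) (h : φ ⬝ᵥ u = 0) :
    IsTv (gtv u φ h) := by
  obtain ⟨w, hw⟩ : ∃ w : Fin (n + 3) → F, w = (u 0)⁻¹ • (u - u 0 • ev F n 0) := ⟨_, rfl⟩
  have hw0 : ev F n 0 ⬝ᵥ w = 0 := by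
    rw [dot_ev_left, hw]
    simp [ev_apply]
  have h1 : ((gtv w (ev F n 0) hw0 : Matrix.SpecialLinearGroup (Fin (n + 3)) F) :
      Matrix (Fin (n + 3)) (Fin (n + 3)) F) *ᵥ (u 0 • ev F n 0) = u := by
    rw [gtv_mulVec, dotProduct_smul, dot_ev_left, ev_apply, if_pos rfl, smul_eq_mul, mul_one, hw,
      smul_smul, mul_inv_cancel₀ hu0, one_smul]
    abel
  apply isTv_of_conj (gtv w (ev F n 0) hw0) u φ (u 0 • ev F n 0) _ h h1 rfl
  intro h'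
  apply isTv_L3 (u 0) hu0 _ ?_ (sl_vecMul_ne_zero _ hφ) h'
  have h3 := h'
  rw [dotProduct_smul, dot_ev_right, smul_eq_mul] at h3
  exact (mul_eq_zero.1 h3).resolve_left hu0

/-- Every general transvection is conjugate to an elementary one. -/
theorem isTv_gtv (u φ : Fin (n + 3) → F) (hu : u ≠ 0) (hφ : φ ≠ 0) (h : φ ⬝ᵥ u = 0) :
    IsTv (gtv u φ h) := by
  by_cases hu0 : u 0 = 0
  · obtain ⟨l, hl⟩ : ∃ l, u l ≠ 0 := by
      by_contra hcon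
      push Not at hcon
      exact hu (funext hcon)
    have hl0 : l ≠ 0 := by
      rintro rfl
      exact hl hu0
    have hd : ev F n l ⬝ᵥ ev F n 0 = 0 := ev_dot_ev _ _ hl0
    have h1 : ((gtv (ev F n 0) (ev F n l) hd : Matrix.SpecialLinearGroup (Fin (n + 3)) F) :
        Matrix (Fin (n + 3)) (Fin (n + 3)) F) *ᵥ (u - u l • ev F n 0) = u := by
      rw [gtv_mulVec, dot_ev_left]
      simp [ev_apply, hl0]
    apply isTv_of_conj (gtv (ev F n 0) (ev F n l) hd) u φ (u - u l • ev F n 0) _ h h1 rfl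
    intro h'
    apply isTv_L4 _ _ ?_ (sl_vecMul_ne_zero _ hφ) h'
    simp [ev_apply, hu0, hl]
  · exact isTv_L4 u φ hu0 hφ h

theorem IsTv.exists_gtv {t : Matrix.SpecialLinearGroup (Fin (n + 3)) F} (ht : IsTv t) :
    ∃ u φ : Fin (n + 3) → F, u ≠ 0 ∧ φ ≠ 0 ∧ ∃ h : φ ⬝ᵥ u = 0, t = gtv u φ h := by
  rw [isTv_iff] at ht
  obtain ⟨c, hc, g, rfl⟩ := ht
  obtain ⟨h', he⟩ := conj_gtv g (c • ev F n 0) (ev F n 1) (tbase_h c)
  exact ⟨_, _, sl_mulVec_ne_zero g (smul_ne_zero hc (ev_ne_zero 0)),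
    sl_vecMul_ne_zero g⁻¹ (ev_ne_zero 1), h', he⟩

theorem isTv_tbase (c : F) (hc : c ≠ 0) :
    IsTv (tbase c : Matrix.SpecialLinearGroup (Fin (n + 3)) F) :=
  isTv_gtv _ _ (smul_ne_zero hc (ev_ne_zero 0)) (ev_ne_zero 1) (tbase_h c)

theorem tbase_conj (c c' : F) (hc : c ≠ 0) (hc' : c' ≠ 0) :
    ∃ δ : Matrix.SpecialLinearGroup (Fin (n + 3)) F, tbase c' = δ * tbase c * δ⁻¹ := by
  obtain ⟨d, hd⟩ : ∃ d : Fin (n + 3) → F,
      d = fun i => if i = 0 then c' / c else if i = 2 then c / c' else 1 := ⟨_, rfl⟩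
  have hd0 : d 0 = c' / c := by rw [hd]; simp
  have hd1 : d 1 = 1 := by
    rw [hd]
    simp [fin3_one_ne_zero, fin3_two_ne_one.symm]
  have hd2 : d 2 = c / c' := by
    rw [hd]
    simp [fin3_two_ne_zero]
  have hdet : (Matrix.diagonal d).det = 1 := by
    rw [Matrix.det_diagonal, Finset.prod_eq_mul (0 : Fin (n + 3)) 2 fin3_two_ne_zero.symm, hd0, hd2]
    · field_simp
    · intro i _ hi
      rw [hd]
      simp [hi.1, hi.2]
    · intro h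
      exact absurd (Finset.mem_univ _) h
    · intro h
      exact absurd (Finset.mem_univ _) h
  refine ⟨⟨Matrix.diagonal d, hdet⟩, ?_⟩
  apply gtv_conj_of
  · ext i
    show (Matrix.diagonal d *ᵥ (c • ev F n 0)) i = (c' • ev F n 0) i
    rw [Matrix.mulVec_diagonal]
    simp only [Pi.smul_apply, ev_apply, smul_eq_mul]
    by_cases hi : i = 0
    · rw [if_pos hi, hi, hd0]
      field_simp
    · rw [if_neg hi, mul_zero, mul_zero, mul_zero]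
  · ext i
    show (ev F n 1 ᵥ* Matrix.diagonal d) i = ev F n 1 i
    rw [Matrix.vecMul_diagonal, ev_apply]
    by_cases hi : i = 1
    · rw [if_pos hi, hi, hd1, mul_one]
    · rw [if_neg hi, zero_mul]

theorem IsTv.conj_of {a b : Matrix.SpecialLinearGroup (Fin (n + 3)) F} (ha : IsTv a)
    (hb : IsTv b) : ∃ g : Matrix.SpecialLinearGroup (Fin (n + 3)) F, b = g * a * g⁻¹ := by
  rw [isTv_iff] at ha hb
  obtain ⟨c, hc, g₁, rfl⟩ := ha
  obtain ⟨c', hc', g₂, rfl⟩ := hb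
  obtain ⟨δ, hδ⟩ := tbase_conj (n := n) c c' hc hc'
  refine ⟨g₂ * δ * g₁⁻¹, ?_⟩
  rw [hδ]
  group

theorem isTv_orderOf [CharP F 2] {t : Matrix.SpecialLinearGroup (Fin (n + 3)) F} (ht : IsTv t) :
    orderOf t = 2 := by
  obtain ⟨u, φ, hu, hφ, h1, rfl⟩ := ht.exists_gtv
  exact gtv_orderOf u φ h1 hu hφ

theorem isTv_closure :
    Subgroup.closure {t : Matrix.SpecialLinearGroup (Fin (n + 3)) F | IsTv t} = ⊤ := by
  rw [eq_top_iff]
  intro M _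
  refine sl_transvection_induction
    (fun M => M ∈ Subgroup.closure {t : Matrix.SpecialLinearGroup (Fin (n + 3)) F | IsTv t})
    ?_ (fun A B hA hB => mul_mem hA hB) M
  intro i j hij a
  by_cases ha : a = 0
  · rw [ha, Matrix.SpecialLinearGroup.transvection_coeff_zero]
    exact one_mem _
  · apply Subgroup.subset_closure
    have hd : ev F n j ⬝ᵥ (a • ev F n i) = 0 := by
      rw [dotProduct_smul, ev_dot_ev _ _ hij.symm, smul_zero]
    have he : Matrix.SpecialLinearGroup.transvection hij a = gtv (a • ev F n i) (ev F n j) hd := by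
      apply Subtype.ext
      rw [gtv_coe, Matrix.SpecialLinearGroup.transvection_coe]
      congr 1
      ext r s
      simp only [vecMulVec_apply, Pi.smul_apply, ev_apply, smul_eq_mul, Matrix.single_apply]
      by_cases hr : r = i
      · by_cases hs : s = j
        · subst hr hs
          simp
        · have hs' : ¬ j = s := fun h => hs h.symm
          simp [hr, hs, hs']
      · have hr' : ¬ i = r := fun h => hr h.symm
        simp [hr, hr']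
    show IsTv _
    rw [he]
    exact isTv_gtv _ _ (smul_ne_zero ha (ev_ne_zero i)) (ev_ne_zero j) hd

theorem gtv_mul_pow [CharP F 2] (u φ v ψ : Fin (n + 3) → F) (h1 : φ ⬝ᵥ u = 0)
    (h2 : ψ ⬝ᵥ v = 0) (hα : φ ⬝ᵥ v ≠ 0) (hβ : ψ ⬝ᵥ u ≠ 0) (k : ℕ)
    (hk : (gtv u φ h1 * gtv v ψ h2) ^ (2 * k) = 1) : (gtv u φ h1 * gtv v ψ h2) ^ k = 1 := by
  apply Subtype.ext
  rw [Matrix.SpecialLinearGroup.coe_pow, gtv_mul_coe, Matrix.SpecialLinearGroup.coe_one]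
  apply pow_eq_one_of_cubic _ (φ ⬝ᵥ v * ψ ⬝ᵥ u) (mul_ne_zero hα hβ) (gtvN_cube u φ v ψ h1 h2)
  have h3 := congrArg (fun x : Matrix.SpecialLinearGroup (Fin (n + 3)) F =>
    (x : Matrix (Fin (n + 3)) (Fin (n + 3)) F)) hk
  simp only [Matrix.SpecialLinearGroup.coe_pow, gtv_mul_coe, Matrix.SpecialLinearGroup.coe_one]
    at h3
  exact h3

theorem gtv_odd [CharP F 2] [Finite F] (u φ v ψ : Fin (n + 3) → F) (h1 : φ ⬝ᵥ u = 0)
    (h2 : ψ ⬝ᵥ v = 0) (hα : φ ⬝ᵥ v ≠ 0) (hβ : ψ ⬝ᵥ u ≠ 0) :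
    Odd (orderOf (gtv u φ h1 * gtv v ψ h2)) := by
  by_contra hodd
  rw [Nat.not_odd_iff_even] at hodd
  obtain ⟨k, hk⟩ := hodd
  have h2k : (gtv u φ h1 * gtv v ψ h2) ^ (2 * k) = 1 := by
    rw [two_mul, ← hk]
    exact pow_orderOf_eq_one _
  have hk1 := gtv_mul_pow u φ v ψ h1 h2 hα hβ k h2k
  have hdvd := orderOf_dvd_of_pow_eq_one hk1
  have hpos := orderOf_pos (gtv u φ h1 * gtv v ψ h2)
  rw [hk] at hdvd hpos
  have := Nat.le_of_dvd (by omega) hdvd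
  omega

/-- The root involution property of the transvections in characteristic two. -/
theorem isTv_pair [CharP F 2] [Finite F] {a b : Matrix.SpecialLinearGroup (Fin (n + 3)) F}
    (ha : IsTv a) (hb : IsTv b) :
    a * b = b * a ∨ Odd (orderOf (a * b)) ∨ (orderOf (a * b) = 4 ∧ IsTv ((a * b) ^ 2)) := by
  obtain ⟨u, φ, hu, hφ, h1, rfl⟩ := ha.exists_gtv
  obtain ⟨v, ψ, hv, hψ, h2, rfl⟩ := hb.exists_gtv
  by_cases hα : φ ⬝ᵥ v = 0
  · by_cases hβ : ψ ⬝ᵥ u = 0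
    · left
      exact gtv_comm u φ v ψ h1 h2 hα hβ
    · right
      right
      obtain ⟨h3, he⟩ := gtv_mul_sq_right u φ v ψ h1 h2 hα
      have hne : (ψ ⬝ᵥ u) • v ≠ 0 := smul_ne_zero hβ hv
      refine ⟨orderOf_eq_four_of_sq _ _ he (gtv_sq _ _ h3) (gtv_ne_one _ _ h3 hne hφ), ?_⟩
      rw [he]
      exact isTv_gtv _ _ hne hφ h3
  · by_cases hβ : ψ ⬝ᵥ u = 0
    · right
      right
      obtain ⟨h3, he⟩ := gtv_mul_sq_left u φ v ψ h1 h2 hβ
      have hne : (φ ⬝ᵥ v) • u ≠ 0 := smul_ne_zero hα hu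
      refine ⟨orderOf_eq_four_of_sq _ _ he (gtv_sq _ _ h3) (gtv_ne_one _ _ h3 hne hψ), ?_⟩
      rw [he]
      exact isTv_gtv _ _ hne hψ h3
    · right
      left
      exact gtv_odd u φ v ψ h1 h2 hα hβ

theorem pow_three_of_cubic {ι : Type*} [Fintype ι] [DecidableEq ι] [CharP F 2]
    (N : Matrix ι ι F) (hN : N ^ 3 = N ^ 2 + N) : (1 + N) ^ 3 = 1 := by
  have e1 := mat_add_self N
  have e2 := mat_add_self (N ^ 2)
  have h3 : (1 + N) ^ 3 = (1 + N) ^ 2 * (1 + N) := pow_succ _ 2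
  rw [h3, one_add_sq, add_mul, one_mul, mul_add, mul_one, ← pow_two, ← pow_succ, hN]
  have h4 : 1 + N + (N ^ 2 + (N ^ 2 + N)) = 1 + (N + N) + (N ^ 2 + N ^ 2) := by abel
  rw [h4, e1, e2, add_zero, add_zero]

/-- Over the field with two elements, a product of two transvections of odd order has order
one or three. -/
theorem isTv_pair_two [CharP F 2] (hF : ∀ x : F, x = 0 ∨ x = 1)
    {a b : Matrix.SpecialLinearGroup (Fin (n + 3)) F} (ha : IsTv a) (hb : IsTv b)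
    (hodd : Odd (orderOf (a * b))) : orderOf (a * b) = 1 ∨ orderOf (a * b) = 3 := by
  obtain ⟨u, φ, hu, hφ, h1, rfl⟩ := ha.exists_gtv
  obtain ⟨v, ψ, hv, hψ, h2, rfl⟩ := hb.exists_gtv
  by_cases hα : φ ⬝ᵥ v = 0
  · by_cases hβ : ψ ⬝ᵥ u = 0
    · have hc : Commute (gtv u φ h1) (gtv v ψ h2) := gtv_comm u φ v ψ h1 h2 hα hβ
      have h3 : (gtv u φ h1 * gtv v ψ h2) ^ 2 = 1 := by
        rw [hc.mul_pow, gtv_sq, gtv_sq, one_mul]
      rcases (Nat.dvd_prime Nat.prime_two).1 (orderOf_dvd_of_pow_eq_one h3) with h4 | h4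
      · exact Or.inl h4
      · rw [h4] at hodd
        exact absurd hodd (by decide)
    · exfalso
      obtain ⟨h3, he⟩ := gtv_mul_sq_right u φ v ψ h1 h2 hα
      have hne : (ψ ⬝ᵥ u) • v ≠ 0 := smul_ne_zero hβ hv
      have h4 := orderOf_eq_four_of_sq _ _ he (gtv_sq _ _ h3) (gtv_ne_one _ _ h3 hne hφ)
      rw [h4] at hodd
      exact absurd hodd (by decide)
  · by_cases hβ : ψ ⬝ᵥ u = 0
    · exfalso
      obtain ⟨h3, he⟩ := gtv_mul_sq_left u φ v ψ h1 h2 hβ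
      have hne : (φ ⬝ᵥ v) • u ≠ 0 := smul_ne_zero hα hu
      have h4 := orderOf_eq_four_of_sq _ _ he (gtv_sq _ _ h3) (gtv_ne_one _ _ h3 hne hψ)
      rw [h4] at hodd
      exact absurd hodd (by decide)
    · have hα1 : φ ⬝ᵥ v = 1 := (hF _).resolve_left hα
      have hβ1 : ψ ⬝ᵥ u = 1 := (hF _).resolve_left hβ
      have hN := gtvN_cube u φ v ψ h1 h2
      rw [hα1, hβ1, mul_one, one_smul, one_smul] at hN
      have h3 : (gtv u φ h1 * gtv v ψ h2) ^ 3 = 1 := by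
        apply Subtype.ext
        rw [Matrix.SpecialLinearGroup.coe_pow, gtv_mul_coe, Matrix.SpecialLinearGroup.coe_one]
        exact pow_three_of_cubic _ hN
      rcases (Nat.dvd_prime Nat.prime_three).1 (orderOf_dvd_of_pow_eq_one h3) with h4 | h4
      · exact Or.inl h4
      · exact Or.inr h4

end Fin3

end Cfsg.Agent.Lib.Helper3
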