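import Mathlib
import Cfsg.Prelude.Def_RootSubgroups
import Cfsg.Agent.Lib.Helper3.SLTv

/-!
# Root subgroups of special linear groups

The groups `{1 + c u φᵀ}` attached to a point `u` and a hyperplane `φ` with `φ u = 0`, and
the three relations between two of them (commuting, rank one pair, commutator case).
-/

set_option autoImplicit false

namespace Cfsg.Agent.Lib.Helper3

open Matrix
open scoped commutatorElement

section AbstractRoot

variable {G : Type*} [Group G]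

theorem conjBy_eq_of_comm (A : Subgroup G) (g : G) (h : ∀ a ∈ A, a * g = g * a) :
    Cfsg.conjBy A g = A := by
  ext x
  rw [Cfsg.conjBy, Subgroup.mem_map_equiv]
  have hx : (MulAut.conj g).symm x = g⁻¹ * x * g := by simp [MulAut.conj_symm_apply]
  rw [hx]
  constructor
  · intro h1
    have h2 := h _ h1
    have h3 : x = g⁻¹ * x * g := by
      have : g * (g⁻¹ * x * g) = x * g := by group
      rw [← h2] at this
      exact (mul_right_cancel this).symm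
    rw [h3]
    exact h1
  · intro h1
    have h2 := h _ h1
    have h3 : g⁻¹ * x * g = x := by
      rw [mul_assoc, h2]
      group
    rw [h3]
    exact h1

theorem not_rankOne_of_comm (A B : Subgroup G) (h : ∀ a ∈ A, ∀ b ∈ B, a * b = b * a)
    (hA : ∃ a ∈ A, a ≠ 1) : ¬ Cfsg.IsRankOnePair A B := by
  intro hr
  obtain ⟨a, ha, ha1⟩ := hA
  obtain ⟨b, hb, -, he⟩ := hr.cond_left a ha ha1
  have h1 : Cfsg.conjBy A b⁻¹ = A := by
    apply conjBy_eq_of_comm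
    intro x hx
    have h5 : Commute x b := h x hx b hb
    exact h5.inv_right.eq
  have h2 : Cfsg.conjBy B a⁻¹ = B := by
    apply conjBy_eq_of_comm
    intro x hx
    have h5 : Commute x a := (h a ha x hx).symm
    exact h5.inv_right.eq
  rw [h1, h2] at he
  exact hr.ne he

theorem rootCommCase_symm {S : Set (Subgroup G)} {A B : Subgroup G}
    (h : Cfsg.RootCommutatorCase S A B) : Cfsg.RootCommutatorCase S B A := by
  obtain ⟨h1, h2, h3, h4⟩ := h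
  have hc : ⁅B, A⁆ = ⁅A, B⁆ := Subgroup.commutator_comm B A
  have hinv : ∀ (f g : G → G) (X : Set G), (∀ x, f x = (g x)⁻¹) →
      Subgroup.closure (f '' X) = Subgroup.closure (g '' X) := by
    intro f g X hfg
    rw [← Subgroup.closure_inv (g '' X)]
    congr 1
    ext y
    simp only [Set.mem_image, Set.mem_inv]
    constructor
    · rintro ⟨x, hx, rfl⟩
      exact ⟨x, hx, by rw [hfg, inv_inv]⟩
    · rintro ⟨x, hx, hxy⟩
      exact ⟨x, hx, by rw [hfg, hxy, inv_inv]⟩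
  refine ⟨by rw [hc]; exact h1, ?_, ?_, ?_⟩
  · intro c hc' x hx
    rw [hc] at hc'
    rw [sup_comm] at hx
    exact h2 c hc' x hx
  · intro b hb hb1
    rw [hc, ← h4 b hb hb1]
    apply hinv
    intro a
    group
  · intro a ha ha1
    rw [hc, ← h3 a ha ha1]
    apply hinv
    intro b
    group

end AbstractRoot

section RootSub

variable {ι : Type*} [Fintype ι] [DecidableEq ι] {F : Type*} [Field F]

theorem dot_smul_zero {u φ : ι → F} (h : φ ⬝ᵥ u = 0) (c : F) : φ ⬝ᵥ (c • u) = 0 := by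
  rw [dotProduct_smul, h, smul_zero]

/-- The root element `1 + c u φᵀ`. -/
def rt (u φ : ι → F) (h : φ ⬝ᵥ u = 0) (c : F) : Matrix.SpecialLinearGroup ι F :=
  gtv (c • u) φ (dot_smul_zero h c)

theorem rt_coe (u φ : ι → F) (h : φ ⬝ᵥ u = 0) (c : F) :
    ((rt u φ h c : Matrix.SpecialLinearGroup ι F) : Matrix ι ι F) = 1 + c • vecMulVec u φ := by
  rw [rt, gtv_coe, smul_vecMulVec]

theorem sl_ext {A B : Matrix.SpecialLinearGroup ι F}
    (h : (A : Matrix ι ι F) = (B : Matrix ι ι F)) : A = B := Subtype.ext h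

theorem rt_mul (u φ : ι → F) (h : φ ⬝ᵥ u = 0) (c d : F) :
    rt u φ h c * rt u φ h d = rt u φ h (c + d) := by
  apply sl_ext
  rw [Matrix.SpecialLinearGroup.coe_mul, rt_coe, rt_coe, rt_coe, add_mul, one_mul, mul_add, mul_one,
    smul_mul_assoc, mul_smul_comm, vecMulVec_mul_vecMulVec, h, zero_smul, vecMulVec_zero,
    smul_zero, smul_zero, add_zero, add_smul]
  abel

theorem rt_zero (u φ : ι → F) (h : φ ⬝ᵥ u = 0) : rt u φ h 0 = 1 := by
  apply sl_ext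
  rw [rt_coe, zero_smul, add_zero, Matrix.SpecialLinearGroup.coe_one]

theorem rt_inv (u φ : ι → F) (h : φ ⬝ᵥ u = 0) (c : F) : (rt u φ h c)⁻¹ = rt u φ h (-c) := by
  apply inv_eq_of_mul_eq_one_right
  rw [rt_mul, add_neg_cancel, rt_zero]

theorem rt_ne_one (u φ : ι → F) (h : φ ⬝ᵥ u = 0) (hu : u ≠ 0) (hφ : φ ≠ 0) (c : F) (hc : c ≠ 0) :
    rt u φ h c ≠ 1 :=
  gtv_ne_one _ _ _ (smul_ne_zero hc hu) hφ

theorem rt_mulVec (u φ : ι → F) (h : φ ⬝ᵥ u = 0) (c : F) (x : ι → F) :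
    ((rt u φ h c : Matrix.SpecialLinearGroup ι F) : Matrix ι ι F) *ᵥ x
      = x + (c * (φ ⬝ᵥ x)) • u := by
  rw [rt, gtv_mulVec, smul_smul, mul_comm]

theorem vecMul_rt (u φ : ι → F) (h : φ ⬝ᵥ u = 0) (c : F) (x : ι → F) :
    x ᵥ* ((rt u φ h c : Matrix.SpecialLinearGroup ι F) : Matrix ι ι F)
      = x + (c * (x ⬝ᵥ u)) • φ := by
  rw [rt, vecMul_gtv, dotProduct_smul, smul_eq_mul]

/-- The root subgroup `{1 + c u φᵀ}`. -/
def rootSub (u φ : ι → F) (h : φ ⬝ᵥ u = 0) : Subgroup (Matrix.SpecialLinearGroup ι F) where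
  carrier := {t | ∃ c : F, t = rt u φ h c}
  mul_mem' := by
    rintro a b ⟨c, rfl⟩ ⟨d, rfl⟩
    exact ⟨c + d, rt_mul u φ h c d⟩
  one_mem' := ⟨0, (rt_zero u φ h).symm⟩
  inv_mem' := by
    rintro a ⟨c, rfl⟩
    exact ⟨-c, rt_inv u φ h c⟩

theorem mem_rootSub {u φ : ι → F} {h : φ ⬝ᵥ u = 0} {t : Matrix.SpecialLinearGroup ι F} :
    t ∈ rootSub u φ h ↔ ∃ c : F, t = rt u φ h c := Iff.rfl

theorem rt_mem (u φ : ι → F) (h : φ ⬝ᵥ u = 0) (c : F) : rt u φ h c ∈ rootSub u φ h := ⟨c, rfl⟩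

theorem mem_rootSub_iff {u φ : ι → F} {h : φ ⬝ᵥ u = 0} {t : Matrix.SpecialLinearGroup ι F} :
    t ∈ rootSub u φ h ↔ ∃ c : F, (t : Matrix ι ι F) = 1 + c • vecMulVec u φ := by
  rw [mem_rootSub]
  constructor
  · rintro ⟨c, rfl⟩
    exact ⟨c, rt_coe u φ h c⟩
  · rintro ⟨c, hc⟩
    exact ⟨c, sl_ext (by rw [hc, rt_coe])⟩

/-- Root subgroups depend on the rank one matrix `u φᵀ` only up to a nonzero scalar. -/
theorem rootSub_eq_of {u φ u' φ' : ι → F} (h : φ ⬝ᵥ u = 0) (h' : φ' ⬝ᵥ u' = 0) (l : F)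
    (hl : l ≠ 0) (hR : vecMulVec u' φ' = l • vecMulVec u φ) :
    rootSub u' φ' h' = rootSub u φ h := by
  ext t
  rw [mem_rootSub_iff, mem_rootSub_iff]
  constructor
  · rintro ⟨c, hc⟩
    exact ⟨c * l, by rw [hc, hR, smul_smul]⟩
  · rintro ⟨c, hc⟩
    exact ⟨c * l⁻¹, by rw [hc, hR, smul_smul, mul_assoc, inv_mul_cancel₀ hl, mul_one]⟩

theorem rootSub_smul_smul {u φ : ι → F} (h : φ ⬝ᵥ u = 0) (l m : F) (hl : l ≠ 0) (hm : m ≠ 0)
    (h' : (m • φ) ⬝ᵥ (l • u) = 0) : rootSub (l • u) (m • φ) h' = rootSub u φ h := by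
  apply rootSub_eq_of h h' (l * m) (mul_ne_zero hl hm)
  rw [smul_vecMulVec, vecMulVec_smul, smul_smul]

/-- The conjugate of a root subgroup. -/
theorem conj_rootSub (g : Matrix.SpecialLinearGroup ι F) (u φ : ι → F) (h : φ ⬝ᵥ u = 0) :
    ∃ h' : (φ ᵥ* ((g⁻¹ : Matrix.SpecialLinearGroup ι F) : Matrix ι ι F))
        ⬝ᵥ ((g : Matrix ι ι F) *ᵥ u) = 0,
      Cfsg.conjBy (rootSub u φ h) g
        = rootSub ((g : Matrix ι ι F) *ᵥ u)
          (φ ᵥ* ((g⁻¹ : Matrix.SpecialLinearGroup ι F) : Matrix ι ι F)) h' := by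
  obtain ⟨h', -⟩ := conj_gtv g u φ h
  refine ⟨h', ?_⟩
  ext t
  rw [Cfsg.conjBy, Subgroup.mem_map_equiv]
  have hx : (MulAut.conj g).symm t = g⁻¹ * t * g := by simp [MulAut.conj_symm_apply]
  rw [hx, mem_rootSub, mem_rootSub]
  have key : ∀ c : F, g * rt u φ h c * g⁻¹ = rt ((g : Matrix ι ι F) *ᵥ u)
      (φ ᵥ* ((g⁻¹ : Matrix.SpecialLinearGroup ι F) : Matrix ι ι F)) h' c := by
    intro c
    obtain ⟨h'', he⟩ := conj_gtv g (c • u) φ (dot_smul_zero h c)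
    rw [rt, he, rt]
    congr 1
    rw [mulVec_smul]
  constructor
  · rintro ⟨c, hc⟩
    refine ⟨c, ?_⟩
    rw [← key, ← hc]
    group
  · rintro ⟨c, hc⟩
    refine ⟨c, ?_⟩
    rw [hc, ← key]
    group

end RootSub

section Pair

variable {ι : Type*} [Fintype ι] [DecidableEq ι] {F : Type*} [Field F]
variable (u φ v ψ : ι → F) (h1 : φ ⬝ᵥ u = 0) (h2 : ψ ⬝ᵥ v = 0)

theorem rt_comm (hα : φ ⬝ᵥ v = 0) (hβ : ψ ⬝ᵥ u = 0) (c d : F) :
    rt u φ h1 c * rt v ψ h2 d = rt v ψ h2 d * rt u φ h1 c := by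
  unfold rt
  apply gtv_comm
  · rw [dotProduct_smul, hα, smul_zero]
  · rw [dotProduct_smul, hβ, smul_zero]

theorem rootSub_comm (hα : φ ⬝ᵥ v = 0) (hβ : ψ ⬝ᵥ u = 0) :
    ∀ a ∈ rootSub u φ h1, ∀ b ∈ rootSub v ψ h2, a * b = b * a := by
  rintro a ⟨c, rfl⟩ b ⟨d, rfl⟩
  exact rt_comm u φ v ψ h1 h2 hα hβ c d

theorem rootSub_commutative : IsMulCommutative (rootSub u φ h1) :=
  ⟨⟨fun a b => Subtype.ext (rootSub_comm u φ u φ h1 h1 h1 h1 a a.2 b b.2)⟩⟩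

/-- The parametrisation of a root subgroup by the additive group of the field. -/
def rootHom : Multiplicative F →* rootSub u φ h1 where
  toFun c := ⟨rt u φ h1 (Multiplicative.toAdd c), rt_mem _ _ _ _⟩
  map_one' := Subtype.ext (rt_zero u φ h1)
  map_mul' c d := Subtype.ext (by
    show rt u φ h1 (Multiplicative.toAdd (c * d)) = rt u φ h1 (Multiplicative.toAdd c)
      * rt u φ h1 (Multiplicative.toAdd d)
    rw [rt_mul, toAdd_mul])

theorem rootSub_nilpotent : Group.IsNilpotent (rootSub u φ h1) :=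
  Group.nilpotent_of_surjective (rootHom u φ h1) (by
    rintro ⟨t, c, rfl⟩
    exact ⟨Multiplicative.ofAdd c, rfl⟩)

theorem rootSub_exists_ne_one (hu : u ≠ 0) (hφ : φ ≠ 0) : ∃ a ∈ rootSub u φ h1, a ≠ 1 :=
  ⟨rt u φ h1 1, rt_mem _ _ _ _, rt_ne_one u φ h1 hu hφ 1 one_ne_zero⟩

theorem rootSub_ne_bot (hu : u ≠ 0) (hφ : φ ≠ 0) : rootSub u φ h1 ≠ ⊥ := by
  intro h
  obtain ⟨a, ha, ha1⟩ := rootSub_exists_ne_one u φ h1 hu hφ
  rw [h, Subgroup.mem_bot] at ha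
  exact ha1 ha

theorem rootSub_ne (hu : u ≠ 0) (hα : φ ⬝ᵥ v ≠ 0) : rootSub u φ h1 ≠ rootSub v ψ h2 := by
  intro he
  have hm : rt u φ h1 1 ∈ rootSub v ψ h2 := he ▸ rt_mem u φ h1 1
  rw [mem_rootSub_iff] at hm
  obtain ⟨d, hd⟩ := hm
  rw [rt_coe, one_smul] at hd
  have h3 := congrArg (fun M : Matrix ι ι F => M *ᵥ v) (add_left_cancel hd)
  simp only [vecMulVec_mulVec, Matrix.smul_mulVec, h2, op_smul_eq_smul, zero_smul, smul_zero]
    at h3
  exact (smul_ne_zero hα hu) h3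

theorem rootSub_rankOneCond (hα : φ ⬝ᵥ v ≠ 0) (hβ : ψ ⬝ᵥ u ≠ 0) :
    Cfsg.RankOneCondition (rootSub u φ h1) (rootSub v ψ h2) := by
  have hv : v ≠ 0 := by
    rintro rfl
    exact hα (dotProduct_zero φ)
  have hψ : ψ ≠ 0 := by
    rintro rfl
    exact hβ (zero_dotProduct u)
  rintro a ⟨c, rfl⟩ ha1
  have hc : c ≠ 0 := by
    rintro rfl
    exact ha1 (rt_zero u φ h1)
  obtain ⟨d, hd⟩ : ∃ d : F, d = (c * (φ ⬝ᵥ v) * (ψ ⬝ᵥ u))⁻¹ := ⟨_, rfl⟩
  have hd0 : d ≠ 0 := by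
    rw [hd]
    exact inv_ne_zero (mul_ne_zero (mul_ne_zero hc hα) hβ)
  have hprod : d * (c * (φ ⬝ᵥ v) * (ψ ⬝ᵥ u)) = 1 := by
    rw [hd]
    exact inv_mul_cancel₀ (mul_ne_zero (mul_ne_zero hc hα) hβ)
  refine ⟨rt v ψ h2 d, rt_mem _ _ _ _, rt_ne_one v ψ h2 hv hψ d hd0, ?_⟩
  rw [rt_inv, rt_inv]
  obtain ⟨h3, e3⟩ := conj_rootSub (rt v ψ h2 (-d)) u φ h1
  obtain ⟨h4, e4⟩ := conj_rootSub (rt u φ h1 (-c)) v ψ h2
  rw [e3, e4]
  apply rootSub_eq_of h4 h3 (-(d * (ψ ⬝ᵥ u)) * (d * (φ ⬝ᵥ v)))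
    (mul_ne_zero (neg_ne_zero.2 (mul_ne_zero hd0 hβ)) (mul_ne_zero hd0 hα))
  rw [rt_inv, rt_inv, neg_neg, neg_neg, rt_mulVec, rt_mulVec, vecMul_rt, vecMul_rt]
  have e1 : u + (-d * (ψ ⬝ᵥ u)) • v
      = (-(d * (ψ ⬝ᵥ u))) • (v + (-c * (φ ⬝ᵥ v)) • u) := by
    rw [smul_add, smul_smul]
    have : -(d * (ψ ⬝ᵥ u)) * (-c * (φ ⬝ᵥ v)) = 1 := by linear_combination hprod
    rw [this, one_smul, add_comm, neg_mul]
  have e2 : φ + (d * (φ ⬝ᵥ v)) • ψ = (d * (φ ⬝ᵥ v)) • (ψ + (c * (ψ ⬝ᵥ u)) • φ) := by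
    rw [smul_add, smul_smul]
    have : d * (φ ⬝ᵥ v) * (c * (ψ ⬝ᵥ u)) = 1 := by linear_combination hprod
    rw [this, one_smul, add_comm]
  rw [e1, e2, smul_vecMulVec, vecMulVec_smul, smul_smul]

/-- Two root subgroups with `φ v ≠ 0` and `ψ u ≠ 0` form a rank one pair. -/
theorem rootSub_rankOne (hu : u ≠ 0) (hα : φ ⬝ᵥ v ≠ 0) (hβ : ψ ⬝ᵥ u ≠ 0) :
    Cfsg.IsRankOnePair (rootSub u φ h1) (rootSub v ψ h2) :=
  ⟨rootSub_ne u φ v ψ h1 h2 hu hα, rootSub_nilpotent u φ h1, rootSub_nilpotent v ψ h2,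
    rootSub_rankOneCond u φ v ψ h1 h2 hα hβ, rootSub_rankOneCond v ψ u φ h2 h1 hβ hα⟩

theorem rt_commutator (hβ : ψ ⬝ᵥ u = 0) (c d : F) :
    rt u φ h1 c * rt v ψ h2 d * (rt u φ h1 c)⁻¹ * (rt v ψ h2 d)⁻¹
      = rt u ψ hβ (c * d * (φ ⬝ᵥ v)) := by
  have key : rt u φ h1 c * rt v ψ h2 d
      = rt u ψ hβ (c * d * (φ ⬝ᵥ v)) * rt v ψ h2 d * rt u φ h1 c := by
    apply sl_ext
    simp only [Matrix.SpecialLinearGroup.coe_mul, rt_coe]
    simp only [add_mul, mul_add, one_mul, mul_one, smul_mul_assoc, mul_smul_comm,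
      vecMulVec_mul_vecMulVec, vecMulVec_smul, h1, h2, hβ, zero_smul, vecMulVec_zero, smul_zero,
      add_zero, zero_add, smul_smul]
    module
  rw [key]
  group

theorem rootSub_commutator (hα : φ ⬝ᵥ v ≠ 0) (hβ : ψ ⬝ᵥ u = 0) :
    ⁅rootSub u φ h1, rootSub v ψ h2⁆ = rootSub u ψ hβ := by
  apply le_antisymm
  · rw [Subgroup.commutator_le]
    rintro a ⟨c, rfl⟩ b ⟨d, rfl⟩
    rw [commutatorElement_def, rt_commutator u φ v ψ h1 h2 hβ]
    exact rt_mem _ _ _ _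
  · rintro t ⟨s, rfl⟩
    have h3 := Subgroup.commutator_mem_commutator (rt_mem u φ h1 1)
      (rt_mem v ψ h2 (s / (φ ⬝ᵥ v)))
    rw [commutatorElement_def, rt_commutator u φ v ψ h1 h2 hβ] at h3
    have e : 1 * (s / (φ ⬝ᵥ v)) * (φ ⬝ᵥ v) = s := by field_simp
    rw [e] at h3
    exact h3

/-- The commutator case for two root subgroups with `φ v ≠ 0` and `ψ u = 0`. -/
theorem rootSub_commCase (S : Set (Subgroup (Matrix.SpecialLinearGroup ι F)))
    (hα : φ ⬝ᵥ v ≠ 0) (hβ : ψ ⬝ᵥ u = 0) (hS : rootSub u ψ hβ ∈ S) :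
    Cfsg.RootCommutatorCase S (rootSub u φ h1) (rootSub v ψ h2) := by
  have hcomm := rootSub_commutator u φ v ψ h1 h2 hα hβ
  refine ⟨by rw [hcomm]; exact hS, ?_, ?_, ?_⟩
  · intro z hz x hx
    rw [hcomm] at hz
    have hA : rootSub u φ h1 ≤ Subgroup.centralizer {z} := by
      intro a ha
      rw [Subgroup.mem_centralizer_iff]
      intro y hy
      rw [Set.mem_singleton_iff] at hy
      subst hy
      exact rootSub_comm u ψ u φ hβ h1 hβ h1 y hz a ha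
    have hB : rootSub v ψ h2 ≤ Subgroup.centralizer {z} := by
      intro b hb
      rw [Subgroup.mem_centralizer_iff]
      intro y hy
      rw [Set.mem_singleton_iff] at hy
      subst hy
      exact rootSub_comm u ψ v ψ hβ h2 h2 hβ y hz b hb
    have h3 := (sup_le hA hB) hx
    rw [Subgroup.mem_centralizer_iff] at h3
    exact h3 z rfl
  · rintro a ⟨c, rfl⟩ ha1
    have hc : c ≠ 0 := by
      rintro rfl
      exact ha1 (rt_zero u φ h1)
    rw [hcomm]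
    have himg : (fun b => rt u φ h1 c * b * (rt u φ h1 c)⁻¹ * b⁻¹) ''
        (rootSub v ψ h2 : Set (Matrix.SpecialLinearGroup ι F))
        = (rootSub u ψ hβ : Set (Matrix.SpecialLinearGroup ι F)) := by
      ext t
      constructor
      · rintro ⟨b, ⟨d, rfl⟩, rfl⟩
        show rt u φ h1 c * rt v ψ h2 d * (rt u φ h1 c)⁻¹ * (rt v ψ h2 d)⁻¹ ∈ rootSub u ψ hβ
        rw [rt_commutator u φ v ψ h1 h2 hβ]
        exact rt_mem _ _ _ _
      · rintro ⟨s, rfl⟩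
        refine ⟨rt v ψ h2 (s / (c * (φ ⬝ᵥ v))), rt_mem _ _ _ _, ?_⟩
        show rt u φ h1 c * rt v ψ h2 (s / (c * (φ ⬝ᵥ v))) * (rt u φ h1 c)⁻¹
          * (rt v ψ h2 (s / (c * (φ ⬝ᵥ v))))⁻¹ = _
        rw [rt_commutator u φ v ψ h1 h2 hβ]
        congr 1
        field_simp
    rw [himg, Subgroup.closure_eq]
  · rintro b ⟨d, rfl⟩ hb1
    have hd : d ≠ 0 := by
      rintro rfl
      exact hb1 (rt_zero v ψ h2)
    rw [hcomm]
    have himg : (fun a => a * rt v ψ h2 d * a⁻¹ * (rt v ψ h2 d)⁻¹) ''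
        (rootSub u φ h1 : Set (Matrix.SpecialLinearGroup ι F))
        = (rootSub u ψ hβ : Set (Matrix.SpecialLinearGroup ι F)) := by
      ext t
      constructor
      · rintro ⟨a, ⟨c, rfl⟩, rfl⟩
        show rt u φ h1 c * rt v ψ h2 d * (rt u φ h1 c)⁻¹ * (rt v ψ h2 d)⁻¹ ∈ rootSub u ψ hβ
        rw [rt_commutator u φ v ψ h1 h2 hβ]
        exact rt_mem _ _ _ _
      · rintro ⟨s, rfl⟩
        refine ⟨rt u φ h1 (s / (d * (φ ⬝ᵥ v))), rt_mem _ _ _ _, ?_⟩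
        show rt u φ h1 (s / (d * (φ ⬝ᵥ v))) * rt v ψ h2 d * (rt u φ h1 (s / (d * (φ ⬝ᵥ v))))⁻¹
          * (rt v ψ h2 d)⁻¹ = _
        rw [rt_commutator u φ v ψ h1 h2 hβ]
        congr 1
        field_simp
    rw [himg, Subgroup.closure_eq]

theorem not_rankOne_left (hu : u ≠ 0) (hφ : φ ≠ 0) (hα : φ ⬝ᵥ v ≠ 0) (hβ : ψ ⬝ᵥ u = 0) :
    ¬ Cfsg.IsRankOnePair (rootSub u φ h1) (rootSub v ψ h2) := by
  intro hr
  obtain ⟨b, ⟨d, rfl⟩, -, he⟩ := hr.cond_left (rt u φ h1 1) (rt_mem _ _ _ _)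
    (rt_ne_one u φ h1 hu hφ 1 one_ne_zero)
  rw [rt_inv, rt_inv] at he
  obtain ⟨h3, e3⟩ := conj_rootSub (rt v ψ h2 (-d)) u φ h1
  obtain ⟨h4, e4⟩ := conj_rootSub (rt u φ h1 (-1)) v ψ h2
  rw [e3, e4] at he
  have hm := rt_mem _ _ h3 1
  rw [he, mem_rootSub_iff] at hm
  obtain ⟨s, hs⟩ := hm
  rw [rt_coe, one_smul] at hs
  have hs' := add_left_cancel hs
  rw [rt_inv, rt_inv, neg_neg, neg_neg, rt_mulVec, rt_mulVec, vecMul_rt, vecMul_rt, hβ] at hs'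
  have h5 := congrArg (fun M : Matrix ι ι F => M *ᵥ v) hs'
  simp only [vecMulVec_mulVec, Matrix.smul_mulVec, op_smul_eq_smul, mul_zero, zero_smul,
    add_zero, add_dotProduct, smul_dotProduct, h2, smul_zero] at h5
  exact (smul_ne_zero hα hu) h5

theorem not_rankOne_right (hv : v ≠ 0) (hψ : ψ ≠ 0) (hα : φ ⬝ᵥ v = 0) (hβ : ψ ⬝ᵥ u ≠ 0) :
    ¬ Cfsg.IsRankOnePair (rootSub u φ h1) (rootSub v ψ h2) :=
  fun hr => not_rankOne_left v ψ u φ h2 h1 hv hψ hβ hα (Cfsg.RankOnePair_symm hr)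

end Pair

section SL2Hom

variable {ι : Type*} [Fintype ι] [DecidableEq ι] {F : Type*} [Field F]
variable (u φ v ψ : ι → F)

/-- The embedding of `2 × 2` matrices attached to a hyperbolic pair. -/
def embE (X : Matrix (Fin 2) (Fin 2) F) : Matrix ι ι F :=
  X 0 0 • vecMulVec u ψ + X 0 1 • vecMulVec u φ + X 1 0 • vecMulVec v ψ + X 1 1 • vecMulVec v φ

/-- The unital version of `embE`. -/
def embR (X : Matrix (Fin 2) (Fin 2) F) : Matrix ι ι F :=
  1 - embE u φ v ψ 1 + embE u φ v ψ X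

theorem embE_add (X Y : Matrix (Fin 2) (Fin 2) F) :
    embE u φ v ψ (X + Y) = embE u φ v ψ X + embE u φ v ψ Y := by
  simp only [embE, Matrix.add_apply, add_smul]
  abel

theorem embR_one : embR u φ v ψ 1 = 1 := by
  rw [embR, sub_add_cancel]

theorem embR_one_add (X : Matrix (Fin 2) (Fin 2) F) :
    embR u φ v ψ (1 + X) = 1 + embE u φ v ψ X := by
  rw [embR, embE_add]
  abel

theorem embE_single01 (a : F) :
    embE u φ v ψ (Matrix.single 0 1 a) = a • vecMulVec u φ := by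
  simp [embE, Matrix.single_apply]

theorem embE_single10 (a : F) :
    embE u φ v ψ (Matrix.single 1 0 a) = a • vecMulVec v ψ := by
  simp [embE, Matrix.single_apply]

variable (h1 : φ ⬝ᵥ u = 0) (h2 : ψ ⬝ᵥ v = 0) (hα : φ ⬝ᵥ v = 1) (hβ : ψ ⬝ᵥ u = 1)

include h1 h2 hα hβ in
theorem embE_mul (X Y : Matrix (Fin 2) (Fin 2) F) :
    embE u φ v ψ X * embE u φ v ψ Y = embE u φ v ψ (X * Y) := by
  simp only [embE, add_mul, mul_add, smul_mul_assoc, mul_smul_comm, vecMulVec_mul_vecMulVec,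
    vecMulVec_smul, h1, h2, hα, hβ, zero_smul, one_smul, vecMulVec_zero, smul_zero, add_zero,
    zero_add, smul_smul, Matrix.mul_apply, Fin.sum_univ_two]
  module

include h1 h2 hα hβ in
theorem embR_mul (X Y : Matrix (Fin 2) (Fin 2) F) :
    embR u φ v ψ X * embR u φ v ψ Y = embR u φ v ψ (X * Y) := by
  have e1 := embE_mul u φ v ψ h1 h2 hα hβ 1 1
  have e2 := embE_mul u φ v ψ h1 h2 hα hβ 1 Y
  have e3 := embE_mul u φ v ψ h1 h2 hα hβ X 1
  have e4 := embE_mul u φ v ψ h1 h2 hα hβ X Y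
  rw [one_mul] at e1 e2
  rw [mul_one] at e3
  rw [embR, embR, embR, ← e4]
  simp only [add_mul, sub_mul, mul_add, mul_sub, one_mul, mul_one, e1, e2, e3]
  abel

include h1 h2 hα hβ in
theorem embR_det (M : Matrix.SpecialLinearGroup (Fin 2) F) :
    (embR u φ v ψ (M : Matrix (Fin 2) (Fin 2) F)).det = 1 := by
  refine sl_transvection_induction
    (fun M : Matrix.SpecialLinearGroup (Fin 2) F =>
      (embR u φ v ψ (M : Matrix (Fin 2) (Fin 2) F)).det = 1) ?_ ?_ M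
  · intro i j hij a
    show (embR u φ v ψ ((Matrix.SpecialLinearGroup.transvection hij a :
      Matrix.SpecialLinearGroup (Fin 2) F) : Matrix (Fin 2) (Fin 2) F)).det = 1
    rw [Matrix.SpecialLinearGroup.transvection_coe, embR_one_add]
    have hcase : (i = 0 ∧ j = 1) ∨ (i = 1 ∧ j = 0) := by
      have h01 : ∀ i : Fin 2, i = 0 ∨ i = 1 := by decide
      rcases h01 i with hi | hi <;> rcases h01 j with hj | hj
      · exact absurd (hi.trans hj.symm) hij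
      · exact Or.inl ⟨hi, hj⟩
      · exact Or.inr ⟨hi, hj⟩
      · exact absurd (hi.trans hj.symm) hij
    rcases hcase with ⟨hi, hj⟩ | ⟨hi, hj⟩
    · rw [hi, hj, embE_single01, ← rt_coe u φ h1 a]
      exact Matrix.SpecialLinearGroup.det_coe _
    · rw [hi, hj, embE_single10, ← rt_coe v ψ h2 a]
      exact Matrix.SpecialLinearGroup.det_coe _
  · intro A B hA hB
    show (embR u φ v ψ ((A * B : Matrix.SpecialLinearGroup (Fin 2) F) :
      Matrix (Fin 2) (Fin 2) F)).det = 1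
    rw [Matrix.SpecialLinearGroup.coe_mul, ← embR_mul u φ v ψ h1 h2 hα hβ, det_mul, hA, hB,
      one_mul]

/-- The homomorphism from `SL₂` attached to a hyperbolic pair. -/
def embHom : Matrix.SpecialLinearGroup (Fin 2) F →* Matrix.SpecialLinearGroup ι F where
  toFun M := ⟨embR u φ v ψ (M : Matrix (Fin 2) (Fin 2) F), embR_det u φ v ψ h1 h2 hα hβ M⟩
  map_one' := Subtype.ext (by
    show embR u φ v ψ ((1 : Matrix.SpecialLinearGroup (Fin 2) F) : Matrix (Fin 2) (Fin 2) F) = 1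
    rw [Matrix.SpecialLinearGroup.coe_one, embR_one])
  map_mul' A B := Subtype.ext (by
    show embR u φ v ψ ((A * B : Matrix.SpecialLinearGroup (Fin 2) F) : Matrix (Fin 2) (Fin 2) F)
      = embR u φ v ψ (A : Matrix (Fin 2) (Fin 2) F) * embR u φ v ψ (B : Matrix (Fin 2) (Fin 2) F)
    rw [Matrix.SpecialLinearGroup.coe_mul, embR_mul u φ v ψ h1 h2 hα hβ])

theorem embHom_coe (M : Matrix.SpecialLinearGroup (Fin 2) F) :
    ((embHom u φ v ψ h1 h2 hα hβ M : Matrix.SpecialLinearGroup ι F) : Matrix ι ι F)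
      = embR u φ v ψ (M : Matrix (Fin 2) (Fin 2) F) := rfl

theorem embHom_upper :
    (Cfsg.upperUnipotentSL2 F).map (embHom u φ v ψ h1 h2 hα hβ) = rootSub u φ h1 := by
  rw [Cfsg.upperUnipotentSL2, MonoidHom.map_closure]
  have himg : (embHom u φ v ψ h1 h2 hα hβ) '' {g | (g : Matrix (Fin 2) (Fin 2) F) 1 0 = 0 ∧
      (g : Matrix (Fin 2) (Fin 2) F) 0 0 = 1 ∧ (g : Matrix (Fin 2) (Fin 2) F) 1 1 = 1}
      = (rootSub u φ h1 : Set (Matrix.SpecialLinearGroup ι F)) := by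
    ext t
    constructor
    · rintro ⟨g, ⟨hg1, hg2, hg3⟩, rfl⟩
      refine ⟨(g : Matrix (Fin 2) (Fin 2) F) 0 1, sl_ext ?_⟩
      rw [embHom_coe, rt_coe, embR, embE, embE, hg1, hg2, hg3]
      simp only [Matrix.one_apply_eq, Matrix.one_apply_ne (show (0 : Fin 2) ≠ 1 by decide),
        Matrix.one_apply_ne (show (1 : Fin 2) ≠ 0 by decide), zero_smul, one_smul, add_zero]
      abel
    · rintro ⟨c, rfl⟩
      refine ⟨Matrix.SpecialLinearGroup.transvection (show (0 : Fin 2) ≠ 1 by decide) c,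
        ⟨?_, ?_, ?_⟩, ?_⟩
      · simp [Matrix.SpecialLinearGroup.transvection_coe, Matrix.single_apply]
      · simp [Matrix.SpecialLinearGroup.transvection_coe, Matrix.single_apply]
      · simp [Matrix.SpecialLinearGroup.transvection_coe, Matrix.single_apply]
      · apply sl_ext
        rw [embHom_coe, Matrix.SpecialLinearGroup.transvection_coe, embR_one_add, embE_single01,
          rt_coe]
  rw [himg, Subgroup.closure_eq]

theorem embHom_lower :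
    (Cfsg.lowerUnipotentSL2 F).map (embHom u φ v ψ h1 h2 hα hβ) = rootSub v ψ h2 := by
  rw [Cfsg.lowerUnipotentSL2, MonoidHom.map_closure]
  have himg : (embHom u φ v ψ h1 h2 hα hβ) '' {g | (g : Matrix (Fin 2) (Fin 2) F) 0 1 = 0 ∧
      (g : Matrix (Fin 2) (Fin 2) F) 0 0 = 1 ∧ (g : Matrix (Fin 2) (Fin 2) F) 1 1 = 1}
      = (rootSub v ψ h2 : Set (Matrix.SpecialLinearGroup ι F)) := by
    ext t
    constructor
    · rintro ⟨g, ⟨hg1, hg2, hg3⟩, rfl⟩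
      refine ⟨(g : Matrix (Fin 2) (Fin 2) F) 1 0, sl_ext ?_⟩
      rw [embHom_coe, rt_coe, embR, embE, embE, hg1, hg2, hg3]
      simp only [Matrix.one_apply_eq, Matrix.one_apply_ne (show (0 : Fin 2) ≠ 1 by decide),
        Matrix.one_apply_ne (show (1 : Fin 2) ≠ 0 by decide), zero_smul, one_smul, add_zero]
      abel
    · rintro ⟨c, rfl⟩
      refine ⟨Matrix.SpecialLinearGroup.transvection (show (1 : Fin 2) ≠ 0 by decide) c,
        ⟨?_, ?_, ?_⟩, ?_⟩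
      · simp [Matrix.SpecialLinearGroup.transvection_coe, Matrix.single_apply]
      · simp [Matrix.SpecialLinearGroup.transvection_coe, Matrix.single_apply]
      · simp [Matrix.SpecialLinearGroup.transvection_coe, Matrix.single_apply]
      · apply sl_ext
        rw [embHom_coe, Matrix.SpecialLinearGroup.transvection_coe, embR_one_add, embE_single10,
          rt_coe]
  rw [himg, Subgroup.closure_eq]

theorem sl2_gen : Cfsg.upperUnipotentSL2 F ⊔ Cfsg.lowerUnipotentSL2 F = ⊤ := by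
  rw [eq_top_iff]
  intro M _
  refine sl_transvection_induction
    (fun M : Matrix.SpecialLinearGroup (Fin 2) F =>
      M ∈ Cfsg.upperUnipotentSL2 F ⊔ Cfsg.lowerUnipotentSL2 F) ?_
    (fun A B hA hB => mul_mem hA hB) M
  intro i j hij a
  have hcase : (i = 0 ∧ j = 1) ∨ (i = 1 ∧ j = 0) := by
    have h01 : ∀ i : Fin 2, i = 0 ∨ i = 1 := by decide
    rcases h01 i with hi | hi <;> rcases h01 j with hj | hj
    · exact absurd (hi.trans hj.symm) hij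
    · exact Or.inl ⟨hi, hj⟩
    · exact Or.inr ⟨hi, hj⟩
    · exact absurd (hi.trans hj.symm) hij
  rcases hcase with ⟨hi, hj⟩ | ⟨hi, hj⟩
  · subst hi hj
    apply Subgroup.mem_sup_left
    apply Subgroup.subset_closure
    refine ⟨?_, ?_, ?_⟩ <;>
      simp [Matrix.SpecialLinearGroup.transvection_coe]
  · subst hi hj
    apply Subgroup.mem_sup_right
    apply Subgroup.subset_closure
    refine ⟨?_, ?_, ?_⟩ <;>
      simp [Matrix.SpecialLinearGroup.transvection_coe]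

theorem embHom_range :
    (embHom u φ v ψ h1 h2 hα hβ).range = rootSub u φ h1 ⊔ rootSub v ψ h2 := by
  rw [MonoidHom.range_eq_map, ← sl2_gen, Subgroup.map_sup, embHom_upper, embHom_lower]

include h1 h2 hα hβ in
theorem embE_inj (X Y : Matrix (Fin 2) (Fin 2) F) (h : embE u φ v ψ X = embE u φ v ψ Y) :
    X = Y := by
  have ku : ∀ X : Matrix (Fin 2) (Fin 2) F, embE u φ v ψ X *ᵥ u = X 0 0 • u + X 1 0 • v := by
    intro X
    simp only [embE, add_mulVec, Matrix.smul_mulVec, vecMulVec_mulVec, op_smul_eq_smul, h1, hβ,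
      zero_smul, one_smul, smul_zero, add_zero]
  have kv : ∀ X : Matrix (Fin 2) (Fin 2) F, embE u φ v ψ X *ᵥ v = X 0 1 • u + X 1 1 • v := by
    intro X
    simp only [embE, add_mulVec, Matrix.smul_mulVec, vecMulVec_mulVec, op_smul_eq_smul, h2, hα,
      zero_smul, one_smul, smul_zero, add_zero, zero_add]
  have e00 : ∀ X : Matrix (Fin 2) (Fin 2) F, X 0 0 = ψ ⬝ᵥ (embE u φ v ψ X *ᵥ u) := by
    intro X
    rw [ku, dotProduct_add, dotProduct_smul, dotProduct_smul, hβ, h2, smul_zero, add_zero,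
      smul_eq_mul, mul_one]
  have e10 : ∀ X : Matrix (Fin 2) (Fin 2) F, X 1 0 = φ ⬝ᵥ (embE u φ v ψ X *ᵥ u) := by
    intro X
    rw [ku, dotProduct_add, dotProduct_smul, dotProduct_smul, hα, h1, smul_zero, zero_add,
      smul_eq_mul, mul_one]
  have e01 : ∀ X : Matrix (Fin 2) (Fin 2) F, X 0 1 = ψ ⬝ᵥ (embE u φ v ψ X *ᵥ v) := by
    intro X
    rw [kv, dotProduct_add, dotProduct_smul, dotProduct_smul, hβ, h2, smul_zero, add_zero,
      smul_eq_mul, mul_one]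
  have e11 : ∀ X : Matrix (Fin 2) (Fin 2) F, X 1 1 = φ ⬝ᵥ (embE u φ v ψ X *ᵥ v) := by
    intro X
    rw [kv, dotProduct_add, dotProduct_smul, dotProduct_smul, hα, h1, smul_zero, zero_add,
      smul_eq_mul, mul_one]
  ext i j
  fin_cases i <;> fin_cases j
  · show X 0 0 = Y 0 0
    rw [e00 X, e00 Y, h]
  · show X 0 1 = Y 0 1
    rw [e01 X, e01 Y, h]
  · show X 1 0 = Y 1 0
    rw [e10 X, e10 Y, h]
  · show X 1 1 = Y 1 1
    rw [e11 X, e11 Y, h]

theorem embHom_ker :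
    (embHom u φ v ψ h1 h2 hα hβ).ker ≤ Subgroup.center (Matrix.SpecialLinearGroup (Fin 2) F) := by
  intro M hM
  rw [MonoidHom.mem_ker] at hM
  have h3 : M = 1 := by
    apply Subtype.ext
    have h4 := congrArg (fun t : Matrix.SpecialLinearGroup ι F => (t : Matrix ι ι F)) hM
    simp only [embHom_coe, Matrix.SpecialLinearGroup.coe_one] at h4
    have h5 : embE u φ v ψ (M : Matrix (Fin 2) (Fin 2) F) = embE u φ v ψ 1 := by
      rw [embR, sub_add_eq_add_sub, sub_eq_iff_eq_add, add_right_inj] at h4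
      exact h4
    exact embE_inj u φ v ψ h1 h2 hα hβ _ _ h5
  rw [h3]
  exact Subgroup.one_mem _

include hα hβ in
/-- A normalised rank one pair of root subgroups is an image of `SL₂`. -/
theorem rootSub_psl2 : Cfsg.IsPSL2PairOver F (rootSub u φ h1) (rootSub v ψ h2) :=
  ⟨embHom u φ v ψ h1 h2 hα hβ, embHom_range u φ v ψ h1 h2 hα hβ, embHom_ker u φ v ψ h1 h2 hα hβ,
    embHom_upper u φ v ψ h1 h2 hα hβ, embHom_lower u φ v ψ h1 h2 hα hβ⟩

end SL2Hom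

section Pair2

variable {ι : Type*} [Fintype ι] [DecidableEq ι] {F : Type*} [Field F]
variable (u φ v ψ : ι → F) (h1 : φ ⬝ᵥ u = 0) (h2 : ψ ⬝ᵥ v = 0)

theorem rootSub_psl2' (hα : φ ⬝ᵥ v ≠ 0) (hβ : ψ ⬝ᵥ u ≠ 0) :
    Cfsg.IsPSL2PairOver F (rootSub u φ h1) (rootSub v ψ h2) := by
  have h1' : ((φ ⬝ᵥ v)⁻¹ • φ) ⬝ᵥ u = 0 := by rw [smul_dotProduct, h1, smul_zero]
  have h2' : ((ψ ⬝ᵥ u)⁻¹ • ψ) ⬝ᵥ v = 0 := by rw [smul_dotProduct, h2, smul_zero]
  have eA : rootSub u ((φ ⬝ᵥ v)⁻¹ • φ) h1' = rootSub u φ h1 := by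
    apply rootSub_eq_of h1 h1' (φ ⬝ᵥ v)⁻¹ (inv_ne_zero hα)
    rw [vecMulVec_smul]
  have eB : rootSub v ((ψ ⬝ᵥ u)⁻¹ • ψ) h2' = rootSub v ψ h2 := by
    apply rootSub_eq_of h2 h2' (ψ ⬝ᵥ u)⁻¹ (inv_ne_zero hβ)
    rw [vecMulVec_smul]
  rw [← eA, ← eB]
  exact rootSub_psl2 u _ v _ h1' h2'
    (by rw [smul_dotProduct, smul_eq_mul, inv_mul_cancel₀ hα])
    (by rw [smul_dotProduct, smul_eq_mul, inv_mul_cancel₀ hβ])

theorem rootSub_ne_of_vec (x : ι → F) (hu : u ≠ 0) (hx1 : φ ⬝ᵥ x ≠ 0) (hx2 : ψ ⬝ᵥ x = 0) :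
    rootSub u φ h1 ≠ rootSub v ψ h2 := by
  intro he
  have hm : rt u φ h1 1 ∈ rootSub v ψ h2 := he ▸ rt_mem u φ h1 1
  rw [mem_rootSub_iff] at hm
  obtain ⟨d, hd⟩ := hm
  rw [rt_coe, one_smul] at hd
  have h3 := congrArg (fun M : Matrix ι ι F => M *ᵥ x) (add_left_cancel hd)
  simp only [vecMulVec_mulVec, Matrix.smul_mulVec, hx2, op_smul_eq_smul, zero_smul, smul_zero]
    at h3
  exact (smul_ne_zero hx1 hu) h3

theorem exists_dot_ne (φ : ι → F) (hφ : φ ≠ 0) : ∃ x : ι → F, φ ⬝ᵥ x ≠ 0 := by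
  obtain ⟨i, hi⟩ : ∃ i, φ i ≠ 0 := by
    by_contra h
    push Not at h
    exact hφ (funext h)
  exact ⟨Pi.single i 1, by rw [dotProduct_single_one]; exact hi⟩

theorem exists_dot_ne' (u : ι → F) (hu : u ≠ 0) : ∃ θ : ι → F, θ ⬝ᵥ u ≠ 0 := by
  obtain ⟨i, hi⟩ : ∃ i, u i ≠ 0 := by
    by_contra h
    push Not at h
    exact hu (funext h)
  exact ⟨Pi.single i 1, by rw [single_one_dotProduct]; exact hi⟩

theorem exists_vec_two (φ ψ : ι → F) (hφ : φ ≠ 0) (hψ : ψ ≠ 0) :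
    ∃ w : ι → F, φ ⬝ᵥ w ≠ 0 ∧ ψ ⬝ᵥ w ≠ 0 := by
  obtain ⟨x, hx⟩ := exists_dot_ne φ hφ
  obtain ⟨y, hy⟩ := exists_dot_ne ψ hψ
  by_cases c1 : ψ ⬝ᵥ x = 0
  · by_cases c2 : φ ⬝ᵥ y = 0
    · refine ⟨x + y, ?_, ?_⟩
      · rw [dotProduct_add, c2, add_zero]
        exact hx
      · rw [dotProduct_add, c1, zero_add]
        exact hy
    · exact ⟨y, c2, hy⟩
  · exact ⟨x, hx, c1⟩

include h1 h2 in
theorem exists_covec_two (w : ι → F) (hu : u ≠ 0) (hv : v ≠ 0) (hφw : φ ⬝ᵥ w ≠ 0)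
    (hψw : ψ ⬝ᵥ w ≠ 0) : ∃ χ : ι → F, χ ⬝ᵥ w = 0 ∧ χ ⬝ᵥ u ≠ 0 ∧ χ ⬝ᵥ v ≠ 0 := by
  obtain ⟨θ, hθ⟩ := exists_dot_ne' u hu
  obtain ⟨θ', hθ'⟩ := exists_dot_ne' v hv
  obtain ⟨χ₁, hχ₁⟩ : ∃ χ₁ : ι → F, χ₁ = θ - ((θ ⬝ᵥ w) / (φ ⬝ᵥ w)) • φ := ⟨_, rfl⟩
  obtain ⟨χ₂, hχ₂⟩ : ∃ χ₂ : ι → F, χ₂ = θ' - ((θ' ⬝ᵥ w) / (ψ ⬝ᵥ w)) • ψ := ⟨_, rfl⟩
  have a1 : χ₁ ⬝ᵥ w = 0 := by
    rw [hχ₁, sub_dotProduct, smul_dotProduct, smul_eq_mul, div_mul_cancel₀ _ hφw, sub_self]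
  have a2 : χ₁ ⬝ᵥ u = θ ⬝ᵥ u := by
    rw [hχ₁, sub_dotProduct, smul_dotProduct, h1, smul_zero, sub_zero]
  have b1 : χ₂ ⬝ᵥ w = 0 := by
    rw [hχ₂, sub_dotProduct, smul_dotProduct, smul_eq_mul, div_mul_cancel₀ _ hψw, sub_self]
  have b2 : χ₂ ⬝ᵥ v = θ' ⬝ᵥ v := by
    rw [hχ₂, sub_dotProduct, smul_dotProduct, h2, smul_zero, sub_zero]
  by_cases c1 : χ₁ ⬝ᵥ v = 0
  · by_cases c2 : χ₂ ⬝ᵥ u = 0
    · refine ⟨χ₁ + χ₂, ?_, ?_, ?_⟩
      · rw [add_dotProduct, a1, b1, add_zero]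
      · rw [add_dotProduct, a2, c2, add_zero]
        exact hθ
      · rw [add_dotProduct, c1, b2, zero_add]
        exact hθ'
    · exact ⟨χ₂, b1, c2, by rw [b2]; exact hθ'⟩
  · exact ⟨χ₁, a1, by rw [a2]; exact hθ, c1⟩

end Pair2

section RootSet

variable {G : Type*} [Group G]

theorem conjBy_conjBy (R : Subgroup G) (g k : G) :
    Cfsg.conjBy (Cfsg.conjBy R g) k = Cfsg.conjBy R (k * g) := by
  rw [Cfsg.conjBy, Cfsg.conjBy, Cfsg.conjBy, Subgroup.map_map]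
  congr 1
  ext x
  simp [MulAut.conj_apply, mul_assoc]

end RootSet

section Fin3Root

variable (F : Type*) [Field F] (n : ℕ)

/-- The class of root subgroups of `SL_{n+3}(F)`: the conjugates of the group of elementary
transvections `1 + c E₀₁`. -/
def rootSet : Set (Subgroup (Matrix.SpecialLinearGroup (Fin (n + 3)) F)) :=
  {A | ∃ g : Matrix.SpecialLinearGroup (Fin (n + 3)) F,
    A = Cfsg.conjBy (Subgroup.closure {t : Matrix.SpecialLinearGroup (Fin (n + 3)) F |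
      ∃ c : F, (t : Matrix (Fin (n + 3)) (Fin (n + 3)) F) = Matrix.transvection 0 1 c}) g}

variable {F n}

theorem ev_dot_self (i : Fin (n + 3)) : ev F n i ⬝ᵥ ev F n i = 1 := by
  rw [dot_ev_left, ev_apply, if_pos rfl]

theorem base_eq :
    Subgroup.closure {t : Matrix.SpecialLinearGroup (Fin (n + 3)) F |
      ∃ c : F, (t : Matrix (Fin (n + 3)) (Fin (n + 3)) F) = Matrix.transvection 0 1 c}
      = rootSub (ev F n 0) (ev F n 1) (ev_dot_ev 1 0 fin3_one_ne_zero) := by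
  have hset : {t : Matrix.SpecialLinearGroup (Fin (n + 3)) F |
      ∃ c : F, (t : Matrix (Fin (n + 3)) (Fin (n + 3)) F) = Matrix.transvection 0 1 c}
      = (rootSub (ev F n 0) (ev F n 1) (ev_dot_ev 1 0 fin3_one_ne_zero) :
        Set (Matrix.SpecialLinearGroup (Fin (n + 3)) F)) := by
    ext t
    rw [SetLike.mem_coe, mem_rootSub_iff]
    have key : ∀ c : F, (Matrix.transvection 0 1 c : Matrix (Fin (n + 3)) (Fin (n + 3)) F)
        = 1 + c • vecMulVec (ev F n 0) (ev F n 1) := by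
      intro c
      rw [← tbase_coe, tbase, gtv_coe, smul_vecMulVec]
    constructor
    · rintro ⟨c, hc⟩
      exact ⟨c, by rw [hc, key]⟩
    · rintro ⟨c, hc⟩
      exact ⟨c, by rw [hc, key]⟩
  rw [hset, Subgroup.closure_eq]

theorem mem_rootSet_iff (A : Subgroup (Matrix.SpecialLinearGroup (Fin (n + 3)) F)) :
    A ∈ rootSet F n ↔ ∃ (u φ : Fin (n + 3) → F) (h : φ ⬝ᵥ u = 0), u ≠ 0 ∧ φ ≠ 0 ∧
      A = rootSub u φ h := by
  constructor
  · rintro ⟨g, rfl⟩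
    rw [base_eq]
    obtain ⟨h', e⟩ := conj_rootSub g (ev F n 0) (ev F n 1) (ev_dot_ev 1 0 fin3_one_ne_zero)
    exact ⟨_, _, h', sl_mulVec_ne_zero g (ev_ne_zero 0), sl_vecMul_ne_zero g⁻¹ (ev_ne_zero 1), e⟩
  · rintro ⟨u, φ, h, hu, hφ, rfl⟩
    have ht := isTv_gtv u φ hu hφ h
    rw [isTv_iff] at ht
    obtain ⟨c, hc, g, hg⟩ := ht
    refine ⟨g, ?_⟩
    rw [base_eq]
    obtain ⟨h', e⟩ := conj_rootSub g (ev F n 0) (ev F n 1) (ev_dot_ev 1 0 fin3_one_ne_zero)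
    rw [e]
    apply rootSub_eq_of h' h c hc
    obtain ⟨h'', e2⟩ := conj_gtv g (c • ev F n 0) (ev F n 1) (tbase_h c)
    have h5 : gtv u φ h = gtv ((g : Matrix (Fin (n + 3)) (Fin (n + 3)) F) *ᵥ (c • ev F n 0))
        (ev F n 1 ᵥ* ((g⁻¹ : Matrix.SpecialLinearGroup (Fin (n + 3)) F) :
          Matrix (Fin (n + 3)) (Fin (n + 3)) F)) h'' := by
      rw [hg, ← e2]
      rfl
    have h6 := congrArg (fun t : Matrix.SpecialLinearGroup (Fin (n + 3)) F =>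
      (t : Matrix (Fin (n + 3)) (Fin (n + 3)) F)) h5
    simp only [gtv_coe] at h6
    have h7 := add_left_cancel h6
    rw [h7, mulVec_smul, smul_vecMulVec]

theorem rootSub_mem_rootSet (u φ : Fin (n + 3) → F) (h : φ ⬝ᵥ u = 0) (hu : u ≠ 0) (hφ : φ ≠ 0) :
    rootSub u φ h ∈ rootSet F n :=
  (mem_rootSet_iff _).2 ⟨u, φ, h, hu, hφ, rfl⟩

theorem rootSet_isRootSubgroupSet : Cfsg.IsRootSubgroupSet (rootSet F n) where
  commutative := by
    intro A hA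
    obtain ⟨u, φ, h, hu, hφ, rfl⟩ := (mem_rootSet_iff A).1 hA
    exact rootSub_commutative u φ h
  ne_bot := by
    intro A hA
    obtain ⟨u, φ, h, hu, hφ, rfl⟩ := (mem_rootSet_iff A).1 hA
    exact rootSub_ne_bot u φ h hu hφ
  generates := by
    rw [eq_top_iff]
    intro M _
    refine sl_transvection_induction
      (fun M : Matrix.SpecialLinearGroup (Fin (n + 3)) F => M ∈ ⨆ A ∈ rootSet F n, A) ?_
      (fun A B hA hB => mul_mem hA hB) M
    intro i j hij a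
    have hd : ev F n j ⬝ᵥ ev F n i = 0 := ev_dot_ev _ _ hij.symm
    have hmem : rootSub (ev F n i) (ev F n j) hd ∈ rootSet F n :=
      rootSub_mem_rootSet _ _ hd (ev_ne_zero i) (ev_ne_zero j)
    have h3 : Matrix.SpecialLinearGroup.transvection hij a ∈ rootSub (ev F n i) (ev F n j) hd := by
      rw [mem_rootSub_iff]
      refine ⟨a, ?_⟩
      rw [Matrix.SpecialLinearGroup.transvection_coe]
      congr 1
      ext r s
      simp only [Matrix.smul_apply, vecMulVec_apply, ev_apply, smul_eq_mul, Matrix.single_apply]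
      by_cases hr : r = i
      · by_cases hs : s = j
        · subst hr hs
          simp
        · have hs' : ¬ j = s := fun h => hs h.symm
          simp [hr, hs, hs']
      · have hr' : ¬ i = r := fun h => hr h.symm
        simp [hr, hr']
    exact Subgroup.mem_iSup_of_mem _ (Subgroup.mem_iSup_of_mem hmem h3)
  conj_mem := by
    rintro A ⟨g, rfl⟩ k
    exact ⟨k * g, conjBy_conjBy _ g k⟩
  pair := by
    intro A hA B hB
    obtain ⟨u, φ, h1, hu, hφ, rfl⟩ := (mem_rootSet_iff A).1 hA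
    obtain ⟨v, ψ, h2, hv, hψ, rfl⟩ := (mem_rootSet_iff B).1 hB
    by_cases hα : φ ⬝ᵥ v = 0
    · by_cases hβ : ψ ⬝ᵥ u = 0
      · left
        rw [Subgroup.commutator_eq_bot_iff_le_centralizer]
        intro a ha
        rw [Subgroup.mem_centralizer_iff]
        intro b hb
        exact (rootSub_comm u φ v ψ h1 h2 hα hβ a ha b hb).symm
      · right
        right
        apply rootCommCase_symm
        exact rootSub_commCase v ψ u φ h2 h1 _ hβ hα (rootSub_mem_rootSet v φ hα hv hφ)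
    · by_cases hβ : ψ ⬝ᵥ u = 0
      · right
        right
        exact rootSub_commCase u φ v ψ h1 h2 _ hα hβ (rootSub_mem_rootSet u ψ hβ hu hψ)
      · right
        left
        exact rootSub_rankOne u φ v ψ h1 h2 hu hα hβ

theorem rootSet_conjClass : Cfsg.IsConjClassOfSubgroups (rootSet F n) := by
  refine ⟨⟨_, 1, rfl⟩, ?_⟩
  rintro A ⟨g₁, rfl⟩ B ⟨g₂, rfl⟩
  refine ⟨g₂ * g₁⁻¹, ?_⟩
  rw [conjBy_conjBy, inv_mul_cancel_right]

theorem rootSet_nondegenerate : Cfsg.IsNondegenerateRootSet (rootSet F n) := by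
  have h10 : ev F n 1 ⬝ᵥ ev F n 0 = 0 := ev_dot_ev 1 0 fin3_one_ne_zero
  have h20 : ev F n 2 ⬝ᵥ ev F n 0 = 0 := ev_dot_ev 2 0 fin3_two_ne_zero
  have h01 : ev F n 0 ⬝ᵥ ev F n 1 = 0 := ev_dot_ev 0 1 fin3_one_ne_zero.symm
  have h21 : ev F n 2 ⬝ᵥ ev F n 1 = 0 := ev_dot_ev 2 1 fin3_two_ne_one
  refine ⟨⟨rootSub (ev F n 0) (ev F n 1) h10, rootSub_mem_rootSet _ _ _ (ev_ne_zero 0)
      (ev_ne_zero 1), rootSub (ev F n 0) (ev F n 2) h20, rootSub_mem_rootSet _ _ _ (ev_ne_zero 0)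
      (ev_ne_zero 2), ?_, ?_⟩,
    ⟨rootSub (ev F n 0) (ev F n 1) h10, rootSub_mem_rootSet _ _ _ (ev_ne_zero 0) (ev_ne_zero 1),
      rootSub (ev F n 1) (ev F n 0) h01, rootSub_mem_rootSet _ _ _ (ev_ne_zero 1) (ev_ne_zero 0),
      ?_⟩,
    ⟨rootSub (ev F n 0) (ev F n 1) h10, rootSub_mem_rootSet _ _ _ (ev_ne_zero 0) (ev_ne_zero 1),
      rootSub (ev F n 1) (ev F n 2) h21, rootSub_mem_rootSet _ _ _ (ev_ne_zero 1) (ev_ne_zero 2),
      ?_⟩⟩
  · apply rootSub_ne_of_vec _ _ _ _ h10 h20 (ev F n 1) (ev_ne_zero 0)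
    · rw [ev_dot_self]
      exact one_ne_zero
    · exact h21
  · rw [Subgroup.commutator_eq_bot_iff_le_centralizer]
    intro a ha
    rw [Subgroup.mem_centralizer_iff]
    intro b hb
    exact (rootSub_comm _ _ _ _ h10 h20 h10 h20 a ha b hb).symm
  · apply rootSub_rankOne _ _ _ _ h10 h01 (ev_ne_zero 0)
    · rw [ev_dot_self]
      exact one_ne_zero
    · rw [ev_dot_self]
      exact one_ne_zero
  · apply rootSub_commCase _ _ _ _ h10 h21 _ _ h20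
    · exact rootSub_mem_rootSet _ _ _ (ev_ne_zero 0) (ev_ne_zero 2)
    · rw [ev_dot_self]
      exact one_ne_zero

theorem rootSet_kRoot : Cfsg.IsKRootSubgroupSet F (rootSet F n) := by
  refine ⟨rootSet_isRootSubgroupSet, ?_⟩
  intro A hA B hB hr
  obtain ⟨u, φ, h1, hu, hφ, rfl⟩ := (mem_rootSet_iff A).1 hA
  obtain ⟨v, ψ, h2, hv, hψ, rfl⟩ := (mem_rootSet_iff B).1 hB
  by_cases hα : φ ⬝ᵥ v = 0
  · by_cases hβ : ψ ⬝ᵥ u = 0
    · exact absurd hr (not_rankOne_of_comm _ _ (rootSub_comm u φ v ψ h1 h2 hα hβ)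
        (rootSub_exists_ne_one u φ h1 hu hφ))
    · exact absurd hr (not_rankOne_right u φ v ψ h1 h2 hv hψ hα hβ)
  · by_cases hβ : ψ ⬝ᵥ u = 0
    · exact absurd hr (not_rankOne_left u φ v ψ h1 h2 hu hφ hα hβ)
    · exact rootSub_psl2' u φ v ψ h1 h2 hα hβ

theorem rootSet_connected : Cfsg.IsConnectedFamily (Cfsg.FAdj (rootSet F n)) (rootSet F n) := by
  intro A hA B hB
  obtain ⟨u, φ, h1, hu, hφ, rfl⟩ := (mem_rootSet_iff A).1 hA
  obtain ⟨v, ψ, h2, hv, hψ, rfl⟩ := (mem_rootSet_iff B).1 hB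
  obtain ⟨w, hw1, hw2⟩ := exists_vec_two φ ψ hφ hψ
  obtain ⟨χ, c1, c2, c3⟩ := exists_covec_two u φ v ψ h1 h2 w hu hv hw1 hw2
  have hw : w ≠ 0 := by
    rintro rfl
    exact hw1 (dotProduct_zero φ)
  have hχ : χ ≠ 0 := by
    rintro rfl
    exact c2 (zero_dotProduct u)
  have hC : rootSub w χ c1 ∈ rootSet F n := rootSub_mem_rootSet w χ c1 hw hχ
  have e1 : Cfsg.FAdj (rootSet F n) (rootSub u φ h1) (rootSub w χ c1) :=
    ⟨hA, hC, rootSub_rankOne u φ w χ h1 c1 hu hw1 c2⟩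
  have e2 : Cfsg.FAdj (rootSet F n) (rootSub w χ c1) (rootSub v ψ h2) :=
    ⟨hC, hB, rootSub_rankOne w χ v ψ c1 h2 hw c3 hw2⟩
  exact Relation.ReflTransGen.trans (Relation.ReflTransGen.single e1)
    (Relation.ReflTransGen.single e2)

end Fin3Root

end Cfsg.Agent.Lib.Helper3
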