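import Mathlib

set_option autoImplicit false

namespace Cfsg.Agent.Lib.Helper3

variable {F : Type*} [Field F] [Fintype F]

/-- The number of solutions `y` of `x ⬝ y = c` for a non-zero vector `x`. -/
theorem card_dot_eq {m : ℕ} (x : Fin m → F) (hx : x ≠ 0) (c : F) :
    Nat.card {y : Fin m → F // ∑ i, x i * y i = c} = Fintype.card F ^ (m - 1) := by
  classical
  obtain ⟨i, hi⟩ : ∃ i, x i ≠ 0 := by
    by_contra hcon
    push Not at hcon
    exact hx (funext hcon)
  have hm : 1 ≤ m := by
    rcases Nat.eq_zero_or_pos m with h0 | h0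
    · subst h0
      exact i.elim0
    · exact h0
  let f : (Fin m → F) →+ F := AddMonoidHom.mk' (fun y => ∑ i, x i * y i) (by
    intro a b
    simp [mul_add, Finset.sum_add_distrib])
  have hf : ∀ y, f y = ∑ i, x i * y i := fun y => rfl
  have hsurj : ∀ d : F, ∃ y, f y = d := by
    intro d
    refine ⟨Pi.single i (d / x i), ?_⟩
    rw [hf, Finset.sum_eq_single i]
    · rw [Pi.single_eq_same]
      field_simp
    · intro j _ hj
      rw [Pi.single_eq_of_ne hj, mul_zero]
    · intro h
      exact absurd (Finset.mem_univ i) h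
  obtain ⟨y₀, hy₀⟩ := hsurj c
  have e : {y : Fin m → F // ∑ i, x i * y i = c} ≃ f.ker := by
    refine ⟨fun y => ⟨y.1 - y₀, ?_⟩, fun k => ⟨k.1 + y₀, ?_⟩, ?_, ?_⟩
    · rw [AddMonoidHom.mem_ker, map_sub, hy₀, hf, y.2, sub_self]
    · have := k.2
      rw [AddMonoidHom.mem_ker] at this
      rw [← hf, map_add, this, hy₀, zero_add]
    · intro y
      apply Subtype.ext
      simp
    · intro k
      apply Subtype.ext
      simp
  rw [Nat.card_congr e]
  have h1 := AddSubgroup.card_mul_index f.ker
  rw [AddSubgroup.index_ker] at h1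
  have h2 : f.range = ⊤ := by
    rw [eq_top_iff]
    intro d _
    obtain ⟨y, hy⟩ := hsurj d
    exact ⟨y, hy⟩
  rw [h2, AddSubgroup.card_top, Nat.card_fun, Nat.card_eq_fintype_card (α := F), Nat.card_fin] at h1
  have h3 : Fintype.card F ^ m = Fintype.card F ^ (m - 1) * Fintype.card F := by
    rw [← pow_succ]
    congr 1
    omega
  rw [h3] at h1
  exact Nat.eq_of_mul_eq_mul_right Fintype.card_pos h1

/-- Counting solutions of `x ⬝ y = c t` with an auxiliary parameter `t`. -/
theorem card_pairs_dot (m : ℕ) {T : Type*} [Fintype T] (c : T → F) :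
    Nat.card {p : (T × (Fin m → F)) × (Fin m → F) // ∑ i, p.1.2 i * p.2 i = c p.1.1} =
      Nat.card {t : T // c t = 0} * Fintype.card F ^ m +
        Fintype.card T * (Fintype.card F ^ m - 1) * Fintype.card F ^ (m - 1) := by
  classical
  rw [Nat.card_congr (Equiv.subtypeProdEquivSigmaSubtype
    (fun (tx : T × (Fin m → F)) (y : Fin m → F) => ∑ i, tx.2 i * y i = c tx.1)),
    Nat.card_sigma, Fintype.sum_prod_type]
  have hx : ∀ (t : T) (x : Fin m → F), Nat.card {y : Fin m → F // ∑ i, x i * y i = c t} =
      if x = 0 then (if c t = 0 then Fintype.card F ^ m else 0) else Fintype.card F ^ (m - 1) := by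
    intro t x
    by_cases hx0 : x = 0
    · subst hx0
      rw [if_pos rfl]
      by_cases hc : c t = 0
      · rw [if_pos hc, hc]
        have : Nat.card {y : Fin m → F // ∑ i, (0 : Fin m → F) i * y i = 0} = Nat.card (Fin m → F) :=
          Nat.card_congr (Equiv.subtypeUnivEquiv (fun y => by simp))
        rw [this, Nat.card_fun, Nat.card_eq_fintype_card (α := F), Nat.card_fin]
      · rw [if_neg hc]
        have : IsEmpty {y : Fin m → F // ∑ i, (0 : Fin m → F) i * y i = c t} := by
          refine ⟨fun y => hc ?_⟩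
          have := y.2
          simp at this
          exact this.symm
        exact Nat.card_of_isEmpty
    · rw [if_neg hx0]
      exact card_dot_eq x hx0 (c t)
  have hsum : ∀ t : T, ∑ x : Fin m → F, Nat.card {y : Fin m → F // ∑ i, x i * y i = c t} =
      (if c t = 0 then Fintype.card F ^ m else 0) +
        (Fintype.card F ^ m - 1) * Fintype.card F ^ (m - 1) := by
    intro t
    rw [← Finset.add_sum_erase Finset.univ _ (Finset.mem_univ (0 : Fin m → F)), hx t 0, if_pos rfl]
    congr 1
    rw [Finset.sum_congr rfl (fun x hx' => by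
      rw [hx t x, if_neg (Finset.ne_of_mem_erase hx')]), Finset.sum_const, smul_eq_mul,
      Finset.card_erase_of_mem (Finset.mem_univ _), Finset.card_univ, Fintype.card_fun,
      Fintype.card_fin]
  rw [Finset.sum_congr rfl (fun t _ => hsum t), Finset.sum_add_distrib, Finset.sum_const,
    smul_eq_mul, Finset.card_univ, mul_assoc]
  congr 1
  rw [← Finset.sum_filter, Finset.sum_const, smul_eq_mul, Nat.card_eq_fintype_card,
    Fintype.card_subtype]

end Cfsg.Agent.Lib.Helper3
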