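import Mathlib
import Cfsg.Prelude
import Cfsg.Agent.S0766
import Cfsg.Agent.Lib.Helper3.FormCount

set_option autoImplicit false

namespace Cfsg.Agent.Lib.Helper3

open Cfsg Matrix

section spcount

variable {F : Type*} [Field F]

/-- fibres of a nonzero linear functional, arbitrary finite index type -/
theorem card_dotProduct_eq [Fintype F] {ι : Type*} [Fintype ι] (x : ι → F) (hx : x ≠ 0)
    (c : F) :
    Nat.card {y : ι → F // x ⬝ᵥ y = c} = Fintype.card F ^ (Fintype.card ι - 1) := by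
  classical
  set e := Fintype.equivFin ι with he
  have hx' : x ∘ e.symm ≠ 0 := by
    intro h0
    apply hx
    funext i
    have := congrFun h0 (e i)
    simpa using this
  rw [← card_dot_eq (x ∘ e.symm) hx' c]
  apply Nat.card_congr
  refine Equiv.subtypeEquiv (Equiv.arrowCongr e (Equiv.refl F)) ?_
  intro y
  have h1 : ∑ j, (x ∘ e.symm) j * (Equiv.arrowCongr e (Equiv.refl F) y) j = x ⬝ᵥ y := by
    unfold dotProduct
    exact Equiv.sum_comp e.symm (fun i => x i * y i)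
  rw [h1]

theorem sympForm_eq (m : ℕ) (x y : Fin m ⊕ Fin m → F) :
    sympForm m F x y
      = ∑ i, (x (Sum.inr i) * y (Sum.inl i) - x (Sum.inl i) * y (Sum.inr i)) := by
  unfold sympForm
  simp only [Matrix.J, dotProduct, Matrix.mulVec, Fintype.sum_sum_type, Matrix.fromBlocks_apply₁₁,
    Matrix.fromBlocks_apply₁₂, Matrix.fromBlocks_apply₂₁, Matrix.fromBlocks_apply₂₂,
    Matrix.zero_apply, zero_mul, Finset.sum_const_zero, zero_add, add_zero, Matrix.neg_apply,
    Matrix.one_apply, neg_mul, ite_mul, one_mul, Finset.sum_neg_distrib, Finset.sum_ite_eq,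
    Finset.mem_univ, if_true, mul_neg]
  rw [Finset.sum_sub_distrib]
  ring

theorem sympForm_succ (m : ℕ) (x y : Fin (m + 1) ⊕ Fin (m + 1) → F) :
    sympForm (m + 1) F x y
      = (x (Sum.inr 0) * y (Sum.inl 0) - x (Sum.inl 0) * y (Sum.inr 0))
        + sympForm m F (x ∘ Sum.map Fin.succ Fin.succ) (y ∘ Sum.map Fin.succ Fin.succ) := by
  rw [sympForm_eq, sympForm_eq, Fin.sum_univ_succ]
  rfl

/-- symplectic frames: families of vectors with the Gram matrix `J` -/
def IsSpFrame (m : ℕ) (F : Type*) [Field F] (a : Fin m ⊕ Fin m → Fin m ⊕ Fin m → F) : Prop :=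
  ∀ i j, sympForm m F (a i) (a j) = Matrix.J (Fin m) F i j

theorem sp_iff_cols (m : ℕ) (M : Matrix (Fin m ⊕ Fin m) (Fin m ⊕ Fin m) F) :
    Mᵀ * Matrix.J (Fin m) F * M = Matrix.J (Fin m) F ↔ IsSpFrame m F (fun i k => M k i) := by
  rw [← Matrix.ext_iff]
  unfold IsSpFrame
  apply forall₂_congr
  intro i j
  have h1 : (Mᵀ * Matrix.J (Fin m) F * M) i j
      = sympForm m F (fun k => M k i) (fun k => M k j) := by
    unfold sympForm
    simp only [Matrix.mul_apply, Matrix.transpose_apply, dotProduct, Matrix.mulVec,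
      Finset.sum_mul, Finset.mul_sum]
    rw [Finset.sum_comm]
    simp only [mul_assoc]
  rw [h1]

theorem card_sp_eq_frames (m : ℕ) :
    Nat.card (Matrix.symplecticGroup (Fin m) F)
      = Nat.card {a : Fin m ⊕ Fin m → Fin m ⊕ Fin m → F // IsSpFrame m F a} := by
  apply Nat.card_congr
  refine Equiv.ofBijective (fun A => ⟨fun i k =>
    (A : Matrix (Fin m ⊕ Fin m) (Fin m ⊕ Fin m) F) k i, ?_⟩) ⟨?_, ?_⟩
  · exact (sp_iff_cols m _).mp (SymplecticGroup.mem_iff'.mp A.2)
  · intro A B h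
    apply Subtype.ext
    ext k i
    exact congrFun (congrFun (congrArg Subtype.val h) i) k
  · rintro ⟨a, ha⟩
    have hM : (Matrix.of (fun k i => a i k) : Matrix (Fin m ⊕ Fin m) (Fin m ⊕ Fin m) F)
        ∈ Matrix.symplecticGroup (Fin m) F :=
      SymplecticGroup.mem_iff'.mpr ((sp_iff_cols m _).mpr ha)
    exact ⟨⟨_, hM⟩, rfl⟩

theorem card_sp_pairs [Fintype F] (m : ℕ) :
    Nat.card {p : (Fin m ⊕ Fin m → F) × (Fin m ⊕ Fin m → F) // sympForm m F p.1 p.2 = -1}
      = (Fintype.card F ^ (2 * m) - 1) * Fintype.card F ^ (2 * m - 1) := by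
  classical
  rw [Nat.card_congr (Equiv.subtypeProdEquivSigmaSubtype
    (fun (u v : Fin m ⊕ Fin m → F) => sympForm m F u v = -1)), Nat.card_sigma]
  have h0 : Nat.card {v : Fin m ⊕ Fin m → F // sympForm m F 0 v = -1} = 0 := by
    rw [Nat.card_eq_zero]
    left
    constructor
    rintro ⟨v, hv⟩
    unfold sympForm at hv
    rw [zero_dotProduct] at hv
    exact (neg_ne_zero.mpr one_ne_zero) hv.symm
  have h1 : ∀ u ∈ Finset.univ.erase (0 : Fin m ⊕ Fin m → F),
      Nat.card {v : Fin m ⊕ Fin m → F // sympForm m F u v = -1}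
        = Fintype.card F ^ (2 * m - 1) := by
    intro u hu
    have hu0 : u ≠ 0 := Finset.ne_of_mem_erase hu
    have hx : u ᵥ* Matrix.J (Fin m) F ≠ 0 := by
      intro h
      apply hu0
      have h2 : (u ᵥ* Matrix.J (Fin m) F) ᵥ* Matrix.J (Fin m) F = -u := by
        rw [Matrix.vecMul_vecMul, Matrix.J_squared, Matrix.vecMul_neg, Matrix.vecMul_one]
      rw [h, Matrix.zero_vecMul] at h2
      exact neg_eq_zero.mp h2.symm
    have h3 := card_dotProduct_eq (u ᵥ* Matrix.J (Fin m) F) hx (-1)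
    simp only [Fintype.card_sum, Fintype.card_fin] at h3
    rw [← two_mul] at h3
    rw [← h3]
    apply Nat.card_congr
    refine Equiv.subtypeEquivRight (fun v => ?_)
    unfold sympForm
    rw [Matrix.dotProduct_mulVec]
  rw [← Finset.add_sum_erase Finset.univ _ (Finset.mem_univ (0 : Fin m ⊕ Fin m → F)), h0,
    zero_add, Finset.sum_congr rfl h1, Finset.sum_const,
    Finset.card_erase_of_mem (Finset.mem_univ _), Finset.card_univ, smul_eq_mul]
  congr 2
  rw [Fintype.card_fun, Fintype.card_sum, Fintype.card_fin, two_mul]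

/-- extension by zero at the two distinguished coordinates -/
def spExt0 (m : ℕ) (x : Fin m ⊕ Fin m → F) : Fin (m + 1) ⊕ Fin (m + 1) → F :=
  Sum.elim (Fin.cons 0 (fun i => x (Sum.inl i))) (Fin.cons 0 (fun i => x (Sum.inr i)))

theorem spExt0_comp (m : ℕ) (x : Fin m ⊕ Fin m → F) :
    spExt0 m x ∘ Sum.map Fin.succ Fin.succ = x := by
  funext i
  rcases i with i | i <;> simp [spExt0]

theorem spExt0_inl (m : ℕ) (x : Fin m ⊕ Fin m → F) : spExt0 m x (Sum.inl 0) = 0 := by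
  simp [spExt0]

theorem spExt0_inr (m : ℕ) (x : Fin m ⊕ Fin m → F) : spExt0 m x (Sum.inr 0) = 0 := by
  simp [spExt0]

theorem eq_spExt0 (m : ℕ) (y : Fin (m + 1) ⊕ Fin (m + 1) → F) (h1 : y (Sum.inl 0) = 0)
    (h2 : y (Sum.inr 0) = 0) : y = spExt0 m (y ∘ Sum.map Fin.succ Fin.succ) := by
  funext i
  rcases i with i | i <;> refine Fin.cases ?_ (fun i' => ?_) i <;> simp [spExt0, h1, h2]

theorem sympForm_ext (m : ℕ) (z z' : Fin m ⊕ Fin m → F) :
    sympForm (m + 1) F (spExt0 m z) (spExt0 m z') = sympForm m F z z' := by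
  rw [sympForm_succ, spExt0_comp, spExt0_comp]
  simp [spExt0_inl, spExt0_inr]

theorem sympForm_e1_left (m : ℕ) (y : Fin (m + 1) ⊕ Fin (m + 1) → F) :
    sympForm (m + 1) F (Pi.single (Sum.inl 0) 1) y = - y (Sum.inr 0) := by
  rw [sympForm_eq]
  simp [Pi.single_apply]

theorem sympForm_e2_left (m : ℕ) (y : Fin (m + 1) ⊕ Fin (m + 1) → F) :
    sympForm (m + 1) F (Pi.single (Sum.inr 0) 1) y = y (Sum.inl 0) := by
  rw [sympForm_eq]
  simp [Pi.single_apply]

theorem sympForm_e1_right (m : ℕ) (x : Fin (m + 1) ⊕ Fin (m + 1) → F) :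
    sympForm (m + 1) F x (Pi.single (Sum.inl 0) 1) = x (Sum.inr 0) := by
  rw [sympForm_eq]
  simp [Pi.single_apply]

theorem sympForm_e2_right (m : ℕ) (x : Fin (m + 1) ⊕ Fin (m + 1) → F) :
    sympForm (m + 1) F x (Pi.single (Sum.inr 0) 1) = - x (Sum.inl 0) := by
  rw [sympForm_eq]
  simp [Pi.single_apply]

/-- the frame obtained from a smaller one by adding the standard hyperbolic pair -/
def spExtFrame (m : ℕ) (a : Fin m ⊕ Fin m → Fin m ⊕ Fin m → F) :
    Fin (m + 1) ⊕ Fin (m + 1) → Fin (m + 1) ⊕ Fin (m + 1) → F :=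
  Sum.elim (Fin.cons (Pi.single (Sum.inl 0) 1) (fun i => spExt0 m (a (Sum.inl i))))
    (Fin.cons (Pi.single (Sum.inr 0) 1) (fun i => spExt0 m (a (Sum.inr i))))

theorem spExtFrame_map (m : ℕ) (a : Fin m ⊕ Fin m → Fin m ⊕ Fin m → F) (k : Fin m ⊕ Fin m) :
    spExtFrame m a (Sum.map Fin.succ Fin.succ k) = spExt0 m (a k) := by
  rcases k with k | k <;> simp [spExtFrame]

theorem J_map (m : ℕ) (k l : Fin m ⊕ Fin m) :
    Matrix.J (Fin (m + 1)) F (Sum.map Fin.succ Fin.succ k) (Sum.map Fin.succ Fin.succ l)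
      = Matrix.J (Fin m) F k l := by
  rcases k with k | k <;> rcases l with l | l <;> simp [Matrix.J, Matrix.one_apply]

theorem isSpFrame_ext (m : ℕ) (a : Fin m ⊕ Fin m → Fin m ⊕ Fin m → F) (ha : IsSpFrame m F a) :
    IsSpFrame (m + 1) F (spExtFrame m a) := by
  have key : ∀ k : Fin (m + 1) ⊕ Fin (m + 1), k = Sum.inl 0 ∨ k = Sum.inr 0 ∨
      ∃ k', k = Sum.map Fin.succ Fin.succ k' := by
    intro k
    rcases k with k | k
    · refine Fin.cases (Or.inl rfl) (fun i => Or.inr (Or.inr ⟨Sum.inl i, rfl⟩)) k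
    · refine Fin.cases (Or.inr (Or.inl rfl)) (fun i => Or.inr (Or.inr ⟨Sum.inr i, rfl⟩)) k
  have h1 : spExtFrame m a (Sum.inl 0) = Pi.single (Sum.inl 0) 1 := by simp [spExtFrame]
  have h2 : spExtFrame m a (Sum.inr 0) = Pi.single (Sum.inr 0) 1 := by simp [spExtFrame]
  intro k l
  rcases key k with rfl | rfl | ⟨k', rfl⟩ <;> rcases key l with rfl | rfl | ⟨l', rfl⟩
  · rw [h1, sympForm_e1_left]; simp [Matrix.J]
  · rw [h1, h2, sympForm_e1_left]; simp [Matrix.J]
  · rw [h1, sympForm_e1_left, spExtFrame_map, spExt0_inr]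
    rcases l' with l' | l' <;> simp [Matrix.J, Fin.succ_ne_zero, eq_comm]
  · rw [h2, h1, sympForm_e2_left]; simp [Matrix.J]
  · rw [h2, sympForm_e2_left]; simp [Matrix.J]
  · rw [h2, sympForm_e2_left, spExtFrame_map, spExt0_inl]
    rcases l' with l' | l' <;> simp [Matrix.J, Fin.succ_ne_zero, eq_comm]
  · rw [h1, sympForm_e1_right, spExtFrame_map, spExt0_inr]
    rcases k' with k' | k' <;> simp [Matrix.J, Fin.succ_ne_zero]
  · rw [h2, sympForm_e2_right, spExtFrame_map, spExt0_inl]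
    rcases k' with k' | k' <;> simp [Matrix.J, Fin.succ_ne_zero]
  · rw [spExtFrame_map, spExtFrame_map, sympForm_ext, ha k' l', J_map]

theorem card_spframes_fix (m : ℕ) :
    Nat.card {a : {a : Fin (m + 1) ⊕ Fin (m + 1) → Fin (m + 1) ⊕ Fin (m + 1) → F //
        IsSpFrame (m + 1) F a} //
        a.1 (Sum.inl 0) = Pi.single (Sum.inl 0) 1 ∧ a.1 (Sum.inr 0) = Pi.single (Sum.inr 0) 1}
      = Nat.card {a : Fin m ⊕ Fin m → Fin m ⊕ Fin m → F // IsSpFrame m F a} := by
  symm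
  apply Nat.card_congr
  refine Equiv.ofBijective (fun a => ⟨⟨spExtFrame m a.1, isSpFrame_ext m a.1 a.2⟩,
    by simp [spExtFrame], by simp [spExtFrame]⟩) ⟨?_, ?_⟩
  · intro a b h
    apply Subtype.ext
    funext k
    have h1 := congrFun (congrArg (fun z => z.1.1) h) (Sum.map Fin.succ Fin.succ k)
    simp only [spExtFrame_map] at h1
    have h2 := congrArg (fun y => y ∘ Sum.map Fin.succ Fin.succ) h1
    simpa [spExt0_comp] using h2
  · rintro ⟨⟨a, ha⟩, ha1, ha2⟩
    simp only at ha1 ha2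
    have hz1 : ∀ k : Fin m ⊕ Fin m, a (Sum.map Fin.succ Fin.succ k) (Sum.inr 0) = 0 := by
      intro k
      have h1 := ha (Sum.map Fin.succ Fin.succ k) (Sum.inl 0)
      rw [ha1, sympForm_e1_right] at h1
      rw [h1]
      rcases k with k | k <;> simp [Matrix.J, Fin.succ_ne_zero]
    have hz2 : ∀ k : Fin m ⊕ Fin m, a (Sum.map Fin.succ Fin.succ k) (Sum.inl 0) = 0 := by
      intro k
      have h1 := ha (Sum.map Fin.succ Fin.succ k) (Sum.inr 0)
      rw [ha2, sympForm_e2_right] at h1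
      have h2 : Matrix.J (Fin (m + 1)) F (Sum.map Fin.succ Fin.succ k) (Sum.inr 0) = 0 := by
        rcases k with k | k <;> simp [Matrix.J, Fin.succ_ne_zero]
      rw [h2] at h1
      exact neg_eq_zero.mp h1
    have hext : ∀ k : Fin m ⊕ Fin m, a (Sum.map Fin.succ Fin.succ k)
        = spExt0 m (a (Sum.map Fin.succ Fin.succ k) ∘ Sum.map Fin.succ Fin.succ) :=
      fun k => eq_spExt0 m _ (hz2 k) (hz1 k)
    have hfr : IsSpFrame m F
        (fun k => a (Sum.map Fin.succ Fin.succ k) ∘ Sum.map Fin.succ Fin.succ) := by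
      intro k l
      rw [← sympForm_ext, ← hext k, ← hext l, ha, J_map]
    refine ⟨⟨_, hfr⟩, ?_⟩
    apply Subtype.ext
    apply Subtype.ext
    funext k
    rcases k with k | k
    · refine Fin.cases ?_ (fun i => ?_) k
      · simp [spExtFrame, ha1]
      · have := hext (Sum.inl i)
        simp only [Sum.map_inl] at this
        simp only [spExtFrame, Sum.elim_inl, Fin.cons_succ]
        exact this.symm
    · refine Fin.cases ?_ (fun i => ?_) k
      · simp [spExtFrame, ha2]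
      · have := hext (Sum.inr i)
        simp only [Sum.map_inr] at this
        simp only [spExtFrame, Sum.elim_inr, Fin.cons_succ]
        exact this.symm

theorem card_spframes_succ [Fintype F] (m : ℕ) :
    Nat.card {a : Fin (m + 1) ⊕ Fin (m + 1) → Fin (m + 1) ⊕ Fin (m + 1) → F //
        IsSpFrame (m + 1) F a}
      = (Fintype.card F ^ (2 * (m + 1)) - 1) * Fintype.card F ^ (2 * (m + 1) - 1)
        * Nat.card {a : Fin m ⊕ Fin m → Fin m ⊕ Fin m → F // IsSpFrame m F a} := by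
  classical
  set P := {p : (Fin (m + 1) ⊕ Fin (m + 1) → F) × (Fin (m + 1) ⊕ Fin (m + 1) → F) //
    sympForm (m + 1) F p.1 p.2 = -1} with hP
  set X := {a : Fin (m + 1) ⊕ Fin (m + 1) → Fin (m + 1) ⊕ Fin (m + 1) → F //
    IsSpFrame (m + 1) F a} with hX
  let f : X → P := fun a => ⟨(a.1 (Sum.inl 0), a.1 (Sum.inr 0)), by
    have := a.2 (Sum.inl 0) (Sum.inr 0)
    simpa [Matrix.J] using this⟩
  have he : sympForm (m + 1) F (Pi.single (Sum.inl 0) 1 : Fin (m + 1) ⊕ Fin (m + 1) → F)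
      (Pi.single (Sum.inr 0) 1) = -1 := by
    rw [sympForm_e1_left]; simp
  have hfib : ∀ p : P, Nat.card {a : X // f a = p}
      = Nat.card {a : X // a.1 (Sum.inl 0) = Pi.single (Sum.inl 0) 1 ∧
          a.1 (Sum.inr 0) = Pi.single (Sum.inr 0) 1} := by
    intro p
    have h1 : sympForm (m + 1) F (Pi.single (Sum.inr 0) 1 : Fin (m + 1) ⊕ Fin (m + 1) → F)
        (Pi.single (Sum.inl 0) 1) = 1 := by
      rw [sympForm_e2_left]; simp
    have h2 : sympForm (m + 1) F p.1.2 p.1.1 = 1 := by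
      rw [Cfsg.Agent.S0766.form_swap, p.2, neg_neg]
    obtain ⟨A, -, hA2, hA1⟩ := Cfsg.Agent.S0766.result (m + 1) _ _ _ _ h1 h2
    have hAinv : ∀ x, ((A⁻¹ : Matrix.symplecticGroup (Fin (m + 1)) F) :
        Matrix (Fin (m + 1) ⊕ Fin (m + 1)) (Fin (m + 1) ⊕ Fin (m + 1)) F) *ᵥ
        ((A : Matrix (Fin (m + 1) ⊕ Fin (m + 1)) (Fin (m + 1) ⊕ Fin (m + 1)) F) *ᵥ x) = x := by
      intro x
      rw [Matrix.mulVec_mulVec, ← Submonoid.coe_mul, inv_mul_cancel, Submonoid.coe_one,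
        Matrix.one_mulVec]
    have hAinv' : ∀ x, (A : Matrix (Fin (m + 1) ⊕ Fin (m + 1)) (Fin (m + 1) ⊕ Fin (m + 1)) F) *ᵥ
        (((A⁻¹ : Matrix.symplecticGroup (Fin (m + 1)) F) :
        Matrix (Fin (m + 1) ⊕ Fin (m + 1)) (Fin (m + 1) ⊕ Fin (m + 1)) F) *ᵥ x) = x := by
      intro x
      rw [Matrix.mulVec_mulVec, ← Submonoid.coe_mul, mul_inv_cancel, Submonoid.coe_one,
        Matrix.one_mulVec]
    symm
    apply Nat.card_congr
    refine ⟨fun a => ⟨⟨fun i => (A : Matrix (Fin (m + 1) ⊕ Fin (m + 1))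
        (Fin (m + 1) ⊕ Fin (m + 1)) F) *ᵥ a.1.1 i, fun i j => by
          rw [Cfsg.Agent.S0766.form_pres]; exact a.1.2 i j⟩, ?_⟩,
      fun a => ⟨⟨fun i => ((A⁻¹ : Matrix.symplecticGroup (Fin (m + 1)) F) :
        Matrix (Fin (m + 1) ⊕ Fin (m + 1)) (Fin (m + 1) ⊕ Fin (m + 1)) F) *ᵥ a.1.1 i,
          fun i j => by rw [Cfsg.Agent.S0766.form_pres]; exact a.1.2 i j⟩, ?_, ?_⟩, ?_, ?_⟩
    · apply Subtype.ext
      apply Prod.ext
      · change (A : Matrix (Fin (m + 1) ⊕ Fin (m + 1)) (Fin (m + 1) ⊕ Fin (m + 1)) F) *ᵥ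
          a.1.1 (Sum.inl 0) = p.1.1
        rw [a.2.1, hA1]
      · change (A : Matrix (Fin (m + 1) ⊕ Fin (m + 1)) (Fin (m + 1) ⊕ Fin (m + 1)) F) *ᵥ
          a.1.1 (Sum.inr 0) = p.1.2
        rw [a.2.2, hA2]
    · have h3 : a.1.1 (Sum.inl 0) = p.1.1 := congrArg (fun z : P => z.1.1) a.2
      change ((A⁻¹ : Matrix.symplecticGroup (Fin (m + 1)) F) :
        Matrix (Fin (m + 1) ⊕ Fin (m + 1)) (Fin (m + 1) ⊕ Fin (m + 1)) F) *ᵥ
          a.1.1 (Sum.inl 0) = _
      rw [h3, ← hA1, hAinv]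
    · have h3 : a.1.1 (Sum.inr 0) = p.1.2 := congrArg (fun z : P => z.1.2) a.2
      change ((A⁻¹ : Matrix.symplecticGroup (Fin (m + 1)) F) :
        Matrix (Fin (m + 1) ⊕ Fin (m + 1)) (Fin (m + 1) ⊕ Fin (m + 1)) F) *ᵥ
          a.1.1 (Sum.inr 0) = _
      rw [h3, ← hA2, hAinv]
    · intro a
      apply Subtype.ext
      apply Subtype.ext
      funext i
      exact hAinv _
    · intro a
      apply Subtype.ext
      apply Subtype.ext
      funext i
      exact hAinv' _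
  have h1 : Nat.card X = Nat.card (Σ p : P, {a : X // f a = p}) :=
    Nat.card_congr (Equiv.sigmaFiberEquiv f).symm
  have : Fintype P := Fintype.ofFinite P
  rw [h1, Nat.card_sigma, Finset.sum_congr rfl (fun p _ => hfib p), Finset.sum_const,
    Finset.card_univ, smul_eq_mul, card_spframes_fix, ← Nat.card_eq_fintype_card, hP,
    card_sp_pairs]

theorem card_sp_succ [Fintype F] (m : ℕ) :
    Nat.card (Matrix.symplecticGroup (Fin (m + 1)) F)
      = (Fintype.card F ^ (2 * (m + 1)) - 1) * Fintype.card F ^ (2 * (m + 1) - 1)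
        * Nat.card (Matrix.symplecticGroup (Fin m) F) := by
  rw [card_sp_eq_frames, card_sp_eq_frames, card_spframes_succ]

theorem card_sp_zero : Nat.card (Matrix.symplecticGroup (Fin 0) F) = 1 := by
  rw [Nat.card_eq_one_iff_unique]
  refine ⟨⟨fun a b => ?_⟩, ⟨1⟩⟩
  apply Subtype.ext
  ext i
  rcases i with i | i <;> exact i.elim0

end spcount

end Cfsg.Agent.Lib.Helper3
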