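import Mathlib
import Cfsg.Prelude.Def_CaseTheorems
import Cfsg.Prelude.Def_TwoFusion
import Cfsg.Agent.Lib.Helper10.ZS7

/-!
Abelian Sylow 2-subgroups: an element of the Sylow subgroup that is centralised by the
normaliser of the Sylow subgroup (obtained by averaging), isolated involutions from it, and
the theorem that a 2-power order automorphism fixing an abelian Sylow 2-subgroup elementwise
is inner (centre and odd core trivial).
-/

namespace Cfsg.Agent.Lib.Helper3

universe u v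

section AbSyl

variable {Γ : Type u} [Group Γ] [Finite Γ]

/-- Averaging: in an abelian Sylow 2-subgroup `Q`, for `y ∈ Q` there is `w ∈ Q` centralised by
the normaliser of `Q` which is a product of an odd number `i` of conjugates of `y`. -/
theorem exists_norm_central (Q : Sylow 2 Γ)
    (hQ : ∀ a ∈ (Q : Subgroup Γ), ∀ b ∈ (Q : Subgroup Γ), a * b = b * a) (y : Γ)
    (hy : y ∈ (Q : Subgroup Γ)) :
    ∃ (w : Γ) (i : ℕ), Odd i ∧ w ∈ (Q : Subgroup Γ) ∧
      (∀ n ∈ Subgroup.normalizer ((Q : Subgroup Γ) : Set Γ), n * w * n⁻¹ = w) ∧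
      ∀ {K : Type v} [CommGroup K] (f : Γ →* K), f w = f y ^ i := by
  classical
  set N : Subgroup Γ := Subgroup.normalizer ((Q : Subgroup Γ) : Set Γ) with hN
  set Q' : Subgroup ↥N := (Q : Subgroup Γ).subgroupOf N with hQ'
  let _ : CommGroup ↥(Q : Subgroup Γ) :=
    { (inferInstance : Group ↥(Q : Subgroup Γ)) with
      mul_comm := fun a b => Subtype.ext (hQ a a.2 b b.2) }
  let _ : Fintype (↥N ⧸ Q') := Fintype.ofFinite _
  have hmem : ∀ n : ↥N, (n : Γ) * y * (n : Γ)⁻¹ ∈ (Q : Subgroup Γ) := fun n =>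
    (Subgroup.mem_normalizer_iff.mp n.2 y).mp hy
  have hwd : ∀ a b : ↥N, (a : ↥N ⧸ Q') = (b : ↥N ⧸ Q') →
      (a : Γ) * y * (a : Γ)⁻¹ = (b : Γ) * y * (b : Γ)⁻¹ := by
    intro a b hab
    have h1 : a⁻¹ * b ∈ Q' := QuotientGroup.eq.mp hab
    have h2 : ((a : Γ)⁻¹ * (b : Γ)) ∈ (Q : Subgroup Γ) := by
      have := Subgroup.mem_subgroupOf.mp h1
      simpa using this
    obtain ⟨z, hz, hb⟩ : ∃ z ∈ (Q : Subgroup Γ), (b : Γ) = (a : Γ) * z := ⟨_, h2, by group⟩
    have h3 := hQ z hz y hy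
    rw [hb, mul_inv_rev]
    have : (a : Γ) * z * y * (z⁻¹ * (a : Γ)⁻¹) = (a : Γ) * (z * y * z⁻¹) * (a : Γ)⁻¹ := by group
    rw [this, h3, mul_inv_cancel_right]
  let t : ↥N ⧸ Q' → ↥(Q : Subgroup Γ) :=
    fun q => ⟨(q.out : Γ) * y * (q.out : Γ)⁻¹, hmem q.out⟩
  refine ⟨((∏ q, t q : ↥(Q : Subgroup Γ)) : Γ), Fintype.card (↥N ⧸ Q'), ?_,
    (∏ q, t q).2, ?_, ?_⟩
  · have h1 : Fintype.card (↥N ⧸ Q') = (Q : Subgroup Γ).relIndex N := by
      rw [← Nat.card_eq_fintype_card]; rfl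
    have h2 := Subgroup.relIndex_mul_index (Subgroup.le_normalizer : (Q : Subgroup Γ) ≤ N)
    have h3 : ¬ 2 ∣ (Q : Subgroup Γ).index := Q.not_dvd_index
    rw [h1, ← Nat.not_even_iff_odd, even_iff_two_dvd]
    intro h
    exact h3 (h2 ▸ Dvd.dvd.mul_right h _)
  · intro n hn
    let c : ↥(Q : Subgroup Γ) →* ↥(Q : Subgroup Γ) :=
      { toFun := fun x => ⟨n * x * n⁻¹, (Subgroup.mem_normalizer_iff.mp hn x).mp x.2⟩
        map_one' := by ext; simp
        map_mul' := fun a b => by ext; simp }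
    have hc : ∀ x : ↥(Q : Subgroup Γ), ((c x : ↥(Q : Subgroup Γ)) : Γ) = n * x * n⁻¹ :=
      fun x => rfl
    rw [← hc, map_prod]
    congr 1
    have hct : ∀ q, c (t q) = t ((⟨n, hn⟩ : ↥N) • q) := by
      intro q
      apply Subtype.ext
      show n * ((q.out : Γ) * y * (q.out : Γ)⁻¹) * n⁻¹ = _
      have := hwd ((⟨n, hn⟩ : ↥N) * q.out) (((⟨n, hn⟩ : ↥N) • q).out) (by
        rw [QuotientGroup.out_eq']
        conv_rhs => rw [← QuotientGroup.out_eq' q]
        rfl)
      show _ = ((((⟨n, hn⟩ : ↥N) • q).out : ↥N) : Γ) * y *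
        ((((⟨n, hn⟩ : ↥N) • q).out : ↥N) : Γ)⁻¹
      rw [← this]
      simp [mul_assoc]
    simp_rw [hct]
    exact Fintype.prod_equiv (MulAction.toPerm (⟨n, hn⟩ : ↥N)) _ _ (fun q => rfl)
  · intro K _ f
    have h0 : f ((∏ q, t q : ↥(Q : Subgroup Γ)) : Γ) =
        (f.comp (Q : Subgroup Γ).subtype) (∏ q, t q) := rfl
    rw [h0, map_prod]
    have h1 : ∀ q, (f.comp (Q : Subgroup Γ).subtype) (t q) = f y := by
      intro q
      show f ((q.out : Γ) * y * (q.out : Γ)⁻¹) = f y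
      rw [map_mul, map_mul, map_inv, mul_comm, inv_mul_cancel_left]
    simp_rw [h1]
    rw [Finset.prod_const, Finset.card_univ]

/-- An involution of an abelian Sylow 2-subgroup which is centralised by the normaliser of the
Sylow subgroup is isolated (Burnside's fusion theorem). -/
theorem isolated_of_norm_central (Q : Sylow 2 Γ)
    (hQ : ∀ a ∈ (Q : Subgroup Γ), ∀ b ∈ (Q : Subgroup Γ), a * b = b * a) (z : Γ)
    (hz : z ∈ (Q : Subgroup Γ)) (hz2 : orderOf z = 2)
    (hc : ∀ n ∈ Subgroup.normalizer ((Q : Subgroup Γ) : Set Γ), n * z * n⁻¹ = z) :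
    Cfsg.IsIsolatedInvolution z := by
  refine ⟨hz2, ?_⟩
  intro g hcomm
  set u := g * z * g⁻¹ with hu
  set C : Subgroup Γ := Subgroup.centralizer {z} with hC
  have hQC : (Q : Subgroup Γ) ≤ C := by
    intro a ha
    rw [hC, Subgroup.mem_centralizer_singleton_iff]
    exact hQ a ha z hz
  have huC : u ∈ C := by
    rw [hC, Subgroup.mem_centralizer_singleton_iff]
    exact hcomm.eq.symm
  have hu2 : orderOf u = 2 := by
    rw [← hz2]
    exact orderOf_injective (MulAut.conj g).toMonoidHom (MulAut.conj g).injective z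
  have hp : IsPGroup 2 ↥(Subgroup.zpowers (⟨u, huC⟩ : ↥C)) := by
    apply IsPGroup.of_card (n := 1)
    rw [Nat.card_zpowers, Subgroup.orderOf_mk, hu2, pow_one]
  obtain ⟨R, hR⟩ := hp.exists_le_sylow
  obtain ⟨c, hcR⟩ := MulAction.exists_smul_eq ↥C R (Q.subtype hQC)
  have h1 : c * (⟨u, huC⟩ : ↥C) * c⁻¹ ∈ ((c • R : Sylow 2 ↥C) : Subgroup ↥C) := by
    have h := Subgroup.smul_mem_pointwise_smul (⟨u, huC⟩ : ↥C) (MulAut.conj c) (R : Subgroup ↥C)
      (hR (Subgroup.mem_zpowers _))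
    exact h
  rw [hcR] at h1
  have h2 : (c : Γ) * u * (c : Γ)⁻¹ ∈ (Q : Subgroup Γ) := by
    have := Subgroup.mem_subgroupOf.mp h1
    simpa using this
  have : IsMulCommutative (Q : Subgroup Γ) := ⟨⟨fun a b => Subtype.ext (hQ a a.2 b b.2)⟩⟩
  have h3 : (((c : Γ) * g)⁻¹)⁻¹ * z * ((c : Γ) * g)⁻¹ ∈ (Q : Subgroup Γ) := by
    have : (((c : Γ) * g)⁻¹)⁻¹ * z * ((c : Γ) * g)⁻¹ = (c : Γ) * u * (c : Γ)⁻¹ := by
      rw [hu]; group
    rw [this]; exact h2
  obtain ⟨n, hn, hn2⟩ := Sylow.conj_eq_normalizer_conj_of_mem Q z _ hz h3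
  have h4 : n⁻¹ * z * n = z := by
    have := hc n⁻¹ (inv_mem hn)
    rwa [inv_inv] at this
  rw [h4] at hn2
  have h5 : (c : Γ) * u * (c : Γ)⁻¹ = z := by
    rw [← hn2, hu]; group
  have h6 : (c : Γ) * z = z * (c : Γ) := Subgroup.mem_centralizer_singleton_iff.mp c.2
  calc u = (c : Γ)⁻¹ * ((c : Γ) * u * (c : Γ)⁻¹) * (c : Γ) := by group
    _ = (c : Γ)⁻¹ * (z * (c : Γ)) := by rw [h5, mul_assoc]
    _ = z := by rw [← h6, inv_mul_cancel_left]

end AbSyl

/-- Every power of an automorphism fixing a subgroup elementwise fixes it elementwise. -/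
theorem zpowers_fix {G : Type u} [Group G] (P : Subgroup G) (α : MulAut G)
    (hfix : ∀ x ∈ P, α x = x) : ∀ k ∈ Subgroup.zpowers α, ∀ x ∈ P, k x = x := by
  intro k hk
  have : Subgroup.zpowers α ≤
      ({ carrier := {σ : MulAut G | ∀ x ∈ P, σ x = x}
         mul_mem' := fun {σ τ} hσ hτ x hx => by
          show (σ * τ) x = x
          rw [MulAut.mul_apply, hτ x hx, hσ x hx]
         one_mem' := fun x _ => rfl
         inv_mem' := fun {σ} hσ x hx => by
          show σ⁻¹ x = x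
          conv_lhs => rw [← hσ x hx]
          exact MulAut.inv_apply_self _ σ x } : Subgroup (MulAut G)) := by
    rw [Subgroup.zpowers_le]; exact hfix
  exact this hk

/-- A 2-power order automorphism of a finite group with trivial centre and trivial odd core that
fixes an abelian Sylow 2-subgroup elementwise is inner. -/
theorem aut_inner_aux {G : Type u} [Group G] [Finite G] (hZ : Subgroup.center G = ⊥)
    (hcore : Cfsg.pPrimeCore 2 G = ⊥) (P : Sylow 2 G)
    (hab : ∀ a ∈ (P : Subgroup G), ∀ b ∈ (P : Subgroup G), a * b = b * a) :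
    ∀ (j : ℕ) (α : MulAut G), orderOf α = 2 ^ j → (∀ x ∈ (P : Subgroup G), α x = x) →
      ∃ g : G, ∀ x : G, α x = g * x * g⁻¹ := by
  intro j
  induction j using Nat.strong_induction_on with
  | _ j ih =>
  intro α hα hfix
  rcases Nat.eq_zero_or_pos j with rfl | hj
  · have : α = 1 := by rw [← orderOf_eq_one_iff]; simpa using hα
    exact ⟨1, fun x => by simp [this]⟩
  set K : Subgroup (MulAut G) := Subgroup.zpowers α with hK
  have hKfix : ∀ k ∈ K, ∀ x ∈ (P : Subgroup G), k x = x := zpowers_fix _ α hfix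
  let φ : ↥K →* MulAut G := K.subtype
  have : Finite (G ⋊[φ] ↥K) := Finite.of_equiv _ SemidirectProduct.equivProd.symm
  let Q₀ : Subgroup (G ⋊[φ] ↥K) :=
    { carrier := {x | x.left ∈ (P : Subgroup G)}
      mul_mem' := by
        intro a b ha hb
        show (a * b).left ∈ (P : Subgroup G)
        rw [SemidirectProduct.mul_left]
        have : φ a.right b.left = b.left := hKfix _ a.right.2 _ hb
        rw [this]; exact mul_mem ha hb
      one_mem' := by
        show (1 : G ⋊[φ] ↥K).left ∈ (P : Subgroup G)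
        rw [SemidirectProduct.one_left]; exact one_mem _
      inv_mem' := by
        intro a ha
        show (a⁻¹).left ∈ (P : Subgroup G)
        rw [SemidirectProduct.inv_left]
        have : φ a.right⁻¹ a.left⁻¹ = a.left⁻¹ := hKfix _ (a.right⁻¹).2 _ (inv_mem ha)
        rw [this]; exact inv_mem ha }
  have hpowl : ∀ (x : G ⋊[φ] ↥K), x.left ∈ (P : Subgroup G) → ∀ n : ℕ,
      (x ^ n).left = x.left ^ n := by
    intro x hx n
    induction n with
    | zero => simp
    | succ n ihn =>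
      rw [pow_succ, SemidirectProduct.mul_left, ihn, pow_succ]
      congr 1
      exact hKfix _ ((x ^ n).right).2 _ hx
  have hpowr : ∀ (x : G ⋊[φ] ↥K) (n : ℕ), (x ^ n).right = x.right ^ n := fun x n =>
    map_pow (SemidirectProduct.rightHom : G ⋊[φ] ↥K →* ↥K) x n
  have hαpow : α ^ (2 ^ j) = 1 := by rw [← hα]; exact pow_orderOf_eq_one α
  have hKpow : ∀ k : ↥K, k ^ (2 ^ j) = 1 := by
    intro k
    obtain ⟨m, hm⟩ := Subgroup.mem_zpowers_iff.mp k.2
    apply Subtype.ext
    rw [Subgroup.coe_pow, ← hm, ← zpow_natCast, ← zpow_mul, mul_comm, zpow_mul, zpow_natCast,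
      hαpow, one_zpow]
    rfl
  have hQ₀p : IsPGroup 2 ↥Q₀ := by
    intro x
    obtain ⟨k₁, hk₁⟩ := P.isPGroup' ⟨x.1.left, x.2⟩
    have hk₁' : x.1.left ^ 2 ^ k₁ = 1 := by simpa [Subtype.ext_iff] using hk₁
    refine ⟨k₁ + j, ?_⟩
    apply Subtype.ext
    apply SemidirectProduct.ext
    · show ((x ^ 2 ^ (k₁ + j) : ↥Q₀) : G ⋊[φ] ↥K).left = 1
      rw [Subgroup.coe_pow, hpowl _ x.2, pow_add, pow_mul, hk₁', one_pow]
    · show ((x ^ 2 ^ (k₁ + j) : ↥Q₀) : G ⋊[φ] ↥K).right = 1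
      rw [Subgroup.coe_pow, hpowr, pow_add, mul_comm, pow_mul, hKpow, one_pow]
  obtain ⟨Q, hQ₀Q⟩ := hQ₀p.exists_le_sylow
  have hQmem : ∀ x ∈ (Q : Subgroup (G ⋊[φ] ↥K)), x.left ∈ (P : Subgroup G) := by
    intro x hx
    have h1 : (SemidirectProduct.inr x.right : G ⋊[φ] ↥K) ∈ (Q : Subgroup _) := hQ₀Q (by
      show (SemidirectProduct.inr x.right : G ⋊[φ] ↥K).left ∈ (P : Subgroup G)
      rw [SemidirectProduct.left_inr]; exact one_mem _)
    have h2 : (SemidirectProduct.inl x.left : G ⋊[φ] ↥K) ∈ (Q : Subgroup _) := by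
      have h3 : (SemidirectProduct.inl x.left : G ⋊[φ] ↥K) =
          x * (SemidirectProduct.inr x.right)⁻¹ := by
        rw [eq_mul_inv_iff_mul_eq]; exact SemidirectProduct.inl_left_mul_inr_right x
      rw [h3]; exact mul_mem hx (inv_mem h1)
    have h4 : IsPGroup 2 ↥((Q : Subgroup (G ⋊[φ] ↥K)).comap
        (SemidirectProduct.inl : G →* G ⋊[φ] ↥K)) :=
      Q.isPGroup'.comap_of_injective _ SemidirectProduct.inl_injective
    have h5 : (P : Subgroup G) ≤ (Q : Subgroup (G ⋊[φ] ↥K)).comap SemidirectProduct.inl := by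
      intro p hp
      exact hQ₀Q (by
        show (SemidirectProduct.inl p : G ⋊[φ] ↥K).left ∈ (P : Subgroup G)
        rw [SemidirectProduct.left_inl]; exact hp)
    have h6 := P.is_maximal' h4 h5
    have h7 : x.left ∈ (Q : Subgroup (G ⋊[φ] ↥K)).comap SemidirectProduct.inl := h2
    rw [h6] at h7; exact h7
  have hKcomm : ∀ a b : ↥K, a * b = b * a := by
    intro a b
    obtain ⟨m, hm⟩ := Subgroup.mem_zpowers_iff.mp a.2
    obtain ⟨n, hn⟩ := Subgroup.mem_zpowers_iff.mp b.2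
    apply Subtype.ext
    show (a : MulAut G) * b = b * a
    rw [← hm, ← hn, ← zpow_add, ← zpow_add, add_comm]
  have hQab : ∀ a ∈ (Q : Subgroup (G ⋊[φ] ↥K)), ∀ b ∈ (Q : Subgroup (G ⋊[φ] ↥K)),
      a * b = b * a := by
    intro a ha b hb
    apply SemidirectProduct.ext
    · rw [SemidirectProduct.mul_left, SemidirectProduct.mul_left,
        show φ a.right b.left = b.left from hKfix _ a.right.2 _ (hQmem b hb),
        show φ b.right a.left = a.left from hKfix _ b.right.2 _ (hQmem a ha)]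
      exact hab _ (hQmem a ha) _ (hQmem b hb)
    · rw [SemidirectProduct.mul_right, SemidirectProduct.mul_right]; exact hKcomm _ _
  let a0 : ↥K := ⟨α, Subgroup.mem_zpowers α⟩
  have hyQ : (SemidirectProduct.inr a0 : G ⋊[φ] ↥K) ∈ (Q : Subgroup _) := hQ₀Q (by
    show (SemidirectProduct.inr a0 : G ⋊[φ] ↥K).left ∈ (P : Subgroup G)
    rw [SemidirectProduct.left_inr]; exact one_mem _)
  let _ : CommGroup ↥K := { (inferInstance : Group ↥K) with mul_comm := hKcomm }
  obtain ⟨w, i, hi, hwQ, hwN, hwf⟩ := exists_norm_central Q hQab _ hyQ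
  have hwr : w.right = a0 ^ i := by
    have h := hwf (K := ↥K) (SemidirectProduct.rightHom : G ⋊[φ] ↥K →* ↥K)
    rw [SemidirectProduct.rightHom_inr] at h
    exact h
  have h1lt : 1 < 2 ^ j := Nat.one_lt_two_pow hj.ne'
  obtain ⟨e, -, he⟩ := Nat.exists_mul_mod_eq_one_of_coprime (k := 2 ^ j) (n := i)
    (Nat.Coprime.pow_right j (Nat.coprime_two_right.mpr hi)) h1lt
  set xh := w ^ e with hxh
  have hxhQ : xh ∈ (Q : Subgroup (G ⋊[φ] ↥K)) := pow_mem hwQ e
  have hxhN : ∀ n ∈ Subgroup.normalizer ((Q : Subgroup (G ⋊[φ] ↥K)) : Set (G ⋊[φ] ↥K)),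
      n * xh * n⁻¹ = xh := by
    intro n hn; rw [hxh, ← conj_pow, hwN n hn]
  have hxhr : (xh.right : MulAut G) = α := by
    rw [hxh, hpowr, hwr, ← pow_mul, Subgroup.coe_pow]
    show α ^ (i * e) = α
    rw [← pow_mod_orderOf, hα, he, pow_one]
  have hxh1 : xh ≠ 1 := by
    intro h
    have h' : (xh.right : MulAut G) = 1 := by rw [h]; rfl
    rw [hxhr] at h'
    rw [h', orderOf_one] at hα
    omega
  obtain ⟨k, hk⟩ : ∃ k, orderOf xh = 2 ^ k := by
    obtain ⟨k₀, hk₀⟩ := Q.isPGroup' ⟨xh, hxhQ⟩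
    have h' : xh ^ 2 ^ k₀ = 1 := by simpa [Subtype.ext_iff] using hk₀
    obtain ⟨k, -, hk⟩ := (Nat.dvd_prime_pow Nat.prime_two).mp (orderOf_dvd_of_pow_eq_one h')
    exact ⟨k, hk⟩
  have hk1 : 1 ≤ k := by
    rcases Nat.eq_zero_or_pos k with rfl | h
    · exact absurd (orderOf_eq_one_iff.mp (by simpa using hk)) hxh1
    · exact h
  set m := orderOf xh / 2 with hm
  have hm' : m = 2 ^ (k - 1) := by
    rw [hm, hk]
    obtain ⟨k', rfl⟩ : ∃ k', k = k' + 1 := ⟨k - 1, by omega⟩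
    rw [pow_succ]; simp
  set zh := xh ^ m with hzh
  have hzh2 : orderOf zh = 2 :=
    orderOf_pow_orderOf_div (by rw [hk]; positivity) (by rw [hk]; exact dvd_pow_self 2 (by omega))
  have hiso : Cfsg.IsIsolatedInvolution zh :=
    isolated_of_norm_central Q hQab zh (pow_mem hxhQ m) hzh2
      (fun n hn => by rw [hzh, ← conj_pow, hxhN n hn])
  have hcoreΓ : Cfsg.pPrimeCore 2 (G ⋊[φ] ↥K) = ⊥ := by
    unfold Cfsg.pPrimeCore
    rw [sSup_eq_bot]
    rintro N ⟨hNn, hNc⟩
    rw [Subgroup.eq_bot_iff_forall]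
    intro x hx
    have hM : N.comap (SemidirectProduct.inl : G →* G ⋊[φ] ↥K) = ⊥ := by
      have h1 : (N.comap (SemidirectProduct.inl : G →* G ⋊[φ] ↥K)) ≤ Cfsg.pPrimeCore 2 G := by
        apply le_sSup
        refine ⟨hNn.comap _, ?_⟩
        exact Nat.Coprime.coprime_dvd_left
          (Subgroup.card_comap_dvd_of_injective N _ SemidirectProduct.inl_injective) hNc
      rw [hcore] at h1; exact le_bot_iff.mp h1
    have hox : (orderOf x).Coprime 2 := Nat.Coprime.coprime_dvd_left (by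
        have := orderOf_dvd_natCard (⟨x, hx⟩ : ↥N)
        rwa [Subgroup.orderOf_mk] at this) hNc
    have hr : x.right = 1 := by
      have h1 : orderOf x.right ∣ orderOf x :=
        orderOf_map_dvd (SemidirectProduct.rightHom : G ⋊[φ] ↥K →* ↥K) x
      have h2 : orderOf x.right ∣ 2 ^ j := orderOf_dvd_of_pow_eq_one (hKpow _)
      have h3 : orderOf x.right = 1 :=
        Nat.Coprime.eq_one_of_dvd ((Nat.Coprime.coprime_dvd_left h1 hox).pow_right j) h2
      exact orderOf_eq_one_iff.mp h3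
    have hxl : x.left = 1 := by
      have h1 : x.left ∈ N.comap (SemidirectProduct.inl : G →* G ⋊[φ] ↥K) := by
        show SemidirectProduct.inl x.left ∈ N
        have h2 : (SemidirectProduct.inl x.left : G ⋊[φ] ↥K) = x := by
          apply SemidirectProduct.ext
          · rw [SemidirectProduct.left_inl]
          · rw [SemidirectProduct.right_inl, hr]
        rw [h2]; exact hx
      rw [hM] at h1; exact Subgroup.mem_bot.mp h1
    exact SemidirectProduct.ext hxl hr
  have hzs := Cfsg.Agent.Lib.Helper10.ZS.zstar zh hiso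
  have hzc : ∀ g : G ⋊[φ] ↥K, zh * g = g * zh := by
    intro g
    have h := hzs g
    rw [show Cfsg.oddCore (G ⋊[φ] ↥K) = Cfsg.pPrimeCore 2 (G ⋊[φ] ↥K) from rfl, hcoreΓ,
      Subgroup.mem_bot] at h
    calc zh * g = zh * g * zh⁻¹ * g⁻¹ * (g * zh) := by group
      _ = g * zh := by rw [h, one_mul]
  set s := xh.left with hs
  have hsP : s ∈ (P : Subgroup G) := hQmem xh hxhQ
  have hzl : zh.left = s ^ m := hpowl xh hsP m
  have hzr : (zh.right : MulAut G) = α ^ m := by
    rw [hzh, hpowr, Subgroup.coe_pow, hxhr]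
  have hβ : ∀ g : G, (α ^ m) g = (s ^ m)⁻¹ * g * s ^ m := by
    intro g
    have h1 := congrArg SemidirectProduct.left (hzc (SemidirectProduct.inl g))
    rw [SemidirectProduct.mul_left, SemidirectProduct.mul_left] at h1
    simp only [SemidirectProduct.left_inl, SemidirectProduct.right_inl, map_one,
      MulAut.one_apply] at h1
    rw [hzl] at h1
    have h2 : φ zh.right g = (α ^ m) g := by rw [← hzr]; rfl
    rw [h2] at h1
    rw [mul_assoc, ← h1, inv_mul_cancel_left]
  have hαm : α ^ m ≠ 1 := by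
    intro h
    have hcen : s ^ m ∈ Subgroup.center G := by
      rw [Subgroup.mem_center_iff]
      intro g
      have h1 := hβ g
      rw [h, MulAut.one_apply] at h1
      calc g * s ^ m = s ^ m * ((s ^ m)⁻¹ * g * s ^ m) := by group
        _ = s ^ m * g := by rw [← h1]
    rw [hZ, Subgroup.mem_bot] at hcen
    have h2 : zh = 1 :=
      SemidirectProduct.ext (by rw [hzl, hcen]; rfl) (Subtype.ext (by rw [hzr, h]; rfl))
    rw [h2, orderOf_one] at hzh2; omega
  have hkj : k - 1 < j := by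
    by_contra hcon
    have hcon : j ≤ k - 1 := Nat.le_of_not_lt hcon
    apply hαm
    rw [hm']
    obtain ⟨d, hd⟩ := Nat.exists_eq_add_of_le hcon
    rw [hd, pow_add, pow_mul, hαpow, one_pow]
  set α2 : MulAut G := MulAut.conj s * α with hα2
  have hcomm : Commute (MulAut.conj s) α := by
    show MulAut.conj s * α = α * MulAut.conj s
    ext g
    simp only [MulAut.mul_apply, MulAut.conj_apply, map_mul, map_inv, hfix s hsP]
  have hα2m : α2 ^ m = 1 := by
    rw [hα2, hcomm.mul_pow, ← map_pow]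
    ext g
    simp only [MulAut.mul_apply, MulAut.conj_apply, MulAut.one_apply, hβ]
    group
  obtain ⟨j', hj', hord⟩ : ∃ j', j' < j ∧ orderOf α2 = 2 ^ j' := by
    have h1 : orderOf α2 ∣ 2 ^ (k - 1) := by rw [← hm']; exact orderOf_dvd_of_pow_eq_one hα2m
    obtain ⟨j', hj', hj'2⟩ := (Nat.dvd_prime_pow Nat.prime_two).mp h1
    exact ⟨j', by omega, hj'2⟩
  have hfix2 : ∀ x ∈ (P : Subgroup G), α2 x = x := by
    intro x hx
    rw [hα2, MulAut.mul_apply, hfix x hx, MulAut.conj_apply, hab s hsP x hx,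
      mul_inv_cancel_right]
  obtain ⟨g, hg⟩ := ih j' hj' α2 hord hfix2
  refine ⟨s⁻¹ * g, fun x => ?_⟩
  have h := hg x
  rw [hα2, MulAut.mul_apply, MulAut.conj_apply] at h
  calc α x = s⁻¹ * (s * α x * s⁻¹) * s := by group
    _ = s⁻¹ * g * x * (s⁻¹ * g)⁻¹ := by rw [h]; group

end Cfsg.Agent.Lib.Helper3
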