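import Mathlib
import Cfsg.Agent.Lib.Helper3.Dihedral

set_option autoImplicit false
open Pointwise

namespace Cfsg.Agent.Lib.Helper3

variable {G : Type*} [Group G]

/-- A simple group with a proper subgroup `H` acts faithfully on the cosets of `H`. -/
theorem toPermHom_injective_of_simple [IsSimpleGroup G] (H : Subgroup G) (hH : H ≠ ⊤) :
    Function.Injective (MulAction.toPermHom G (G ⧸ H)) := by
  rw [← MonoidHom.ker_eq_bot_iff, ← Subgroup.normalCore_eq_ker]
  rcases (Subgroup.normalCore_normal H).eq_bot_or_eq_top with h | h
  · exact h
  · exfalso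
    apply hH
    rw [eq_top_iff, ← h]
    exact Subgroup.normalCore_le H

theorem card_le_factorial_index_of_simple [Finite G] [IsSimpleGroup G] (H : Subgroup G)
    (hH : H ≠ ⊤) : Nat.card G ≤ Nat.factorial H.index := by
  have hfin : Finite (G ⧸ H) := inferInstance
  have h := Nat.card_le_card_of_injective _ (toPermHom_injective_of_simple H hH)
  rw [Nat.card_perm] at h
  exact h.trans (le_of_eq (by rw [Subgroup.index]))

/-- Number of involutions times the centralizer order of one of them is at least `|G|`. -/
theorem card_le_invol_mul_centralizer [Finite G] {t : G} (ht : orderOf t = 2) :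
    Nat.card G ≤ Nat.card {u : G // orderOf u = 2} *
      Nat.card (Subgroup.centralizer ({t} : Set G)) := by
  rw [← card_conj_class t]
  apply Nat.mul_le_mul_right
  exact Nat.card_le_card_of_injective
    (fun y : {y : G // IsConj t y} => (⟨y.1, invol_conj ht y.2⟩ : {u : G // orderOf u = 2}))
    (by
      intro a b h
      have h' : a.1 = b.1 := congrArg (fun u : {u : G // orderOf u = 2} => (u : G)) h
      exact Subtype.ext h')

theorem even_card_of_invol [Finite G] {t : G} (ht : orderOf t = 2) : Even (Nat.card G) := by
  have := orderOf_dvd_natCard t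
  rw [ht] at this
  exact even_iff_two_dvd.mpr this

end Cfsg.Agent.Lib.Helper3
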