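import Mathlib
import Cfsg.Prelude.Def_ClassicalGeometry
import Cfsg.Agent.Lib.Helper3.OmegaSimple

/-!
# Simplicity of the projective commutator subgroups of orthogonal groups: generic form

The argument of `OmegaSimple`, with the two characteristic-dependent inputs (generation by
long root elements, existence of singular vectors orthogonal to four given vectors) turned into
hypotheses, so that it applies in every characteristic.
-/

set_option autoImplicit false
set_option linter.unusedSectionVars false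

namespace Cfsg.Agent.Lib.Helper3

open Cfsg.Agent.Lib.Helper16 Matrix
open scoped LinearAlgebra.Projectivization
open scoped Pointwise
open scoped commutatorElement

section CommGen

variable {ι : Type} [Fintype ι] [DecidableEq ι] {F : Type*} [Field F] [Fintype F]
variable (Q : QuadraticForm F (ι → F))

/-- Every long root element is a commutator of two elements of the commutator subgroup
(generic form: singular vectors orthogonal to four given vectors exist). -/
theorem siegel_is_commutator_gen (hQ : (QuadraticMap.polarBilin Q).Nondegenerate)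
    (hsing : ∀ v : Fin 4 → (ι → F), ∃ x : ι → F, x ≠ 0 ∧ Q x = 0 ∧
      ∀ i, QuadraticMap.polar (⇑Q) (v i) x = 0)
    (h5 : 5 ≤ Fintype.card ι) (u v' : ι → F) (c : F)
    (hu : Q u = 0) (hv' : Q v' = 0) (huv' : QuadraticMap.polar (⇑Q) u v' = 0) :
    ∃ g₁ g₂ : ↥(Cfsg.isometryGroup F (⇑Q)), g₁ ∈ Cfsg.Omega F (⇑Q) ∧ g₂ ∈ Cfsg.Omega F (⇑Q) ∧
      siegelG Q u v' c hu hv' huv' = g₁ * g₂ * g₁⁻¹ * g₂⁻¹ := by
  by_cases hdep : u ∈ Submodule.span F ({v'} : Set (ι → F))
  · refine ⟨1, 1, one_mem _, one_mem _, ?_⟩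
    rw [Submodule.mem_span_singleton] at hdep
    obtain ⟨a, ha⟩ := hdep
    apply isomG_ext
    rw [siegelG_coe]
    simp only [mul_one, inv_one, isomG_one_coe]
    rw [← ha, siegel_dep_left]
  by_cases hdep' : v' ∈ Submodule.span F ({u} : Set (ι → F))
  · refine ⟨1, 1, one_mem _, one_mem _, ?_⟩
    rw [Submodule.mem_span_singleton] at hdep'
    obtain ⟨a, ha⟩ := hdep'
    apply isomG_ext
    rw [siegelG_coe]
    simp only [mul_one, inv_one, isomG_one_coe]
    rw [← ha, siegel_dep_right]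
  obtain ⟨a, hv'a, hua⟩ := exists_perp_not_perp Q hQ u v' hdep
  obtain ⟨b, hub, hv'b⟩ := exists_perp_not_perp Q hQ v' u hdep'
  obtain ⟨v, hv0, hv, hvperp⟩ := hsing ![u, v', a, b]
  have huv : QuadraticMap.polar (⇑Q) u v = 0 := hvperp 0
  have hv'v : QuadraticMap.polar (⇑Q) v' v = 0 := hvperp 1
  have hav : QuadraticMap.polar (⇑Q) a v = 0 := hvperp 2
  have hbv : QuadraticMap.polar (⇑Q) b v = 0 := hvperp 3
  have hvu : QuadraticMap.polar (⇑Q) v u = 0 := by rw [QuadraticMap.polar_comm]; exact huv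
  have hvv' : QuadraticMap.polar (⇑Q) v v' = 0 := by rw [QuadraticMap.polar_comm]; exact hv'v
  have hv'u : QuadraticMap.polar (⇑Q) v' u = 0 := by rw [QuadraticMap.polar_comm]; exact huv'
  have hvT : v ∉ Submodule.span F ({u, v'} : Set (ι → F)) := by
    intro hmem
    rw [Submodule.mem_span_pair] at hmem
    obtain ⟨α, β, rfl⟩ := hmem
    have h1 := hav
    have h3 := hbv
    rw [QuadraticMap.polar_add_right, QuadraticMap.polar_smul_right,
      QuadraticMap.polar_smul_right] at h1 h3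
    rw [QuadraticMap.polar_comm (⇑Q) a v', hv'a, smul_zero, add_zero,
      QuadraticMap.polar_comm (⇑Q) a u, smul_eq_mul] at h1
    rw [QuadraticMap.polar_comm (⇑Q) b u, hub, smul_zero, zero_add,
      QuadraticMap.polar_comm (⇑Q) b v', smul_eq_mul] at h3
    have hα : α = 0 := (mul_eq_zero.1 h1).resolve_right hua
    have hβ : β = 0 := (mul_eq_zero.1 h3).resolve_right hv'b
    apply hv0
    rw [hα, hβ, zero_smul, zero_smul, add_zero]
  obtain ⟨z₀, hz₀T, hvz₀⟩ := exists_perp_sub_not_perp Q hQ _ v hvT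
  have huz₀ : QuadraticMap.polar (⇑Q) u z₀ = 0 := hz₀T u (Submodule.subset_span (by simp))
  have hv'z₀ : QuadraticMap.polar (⇑Q) v' z₀ = 0 := hz₀T v' (Submodule.subset_span (by simp))
  obtain ⟨z, hz⟩ : ∃ z : ι → F, z = z₀ - (Q z₀ / QuadraticMap.polar (⇑Q) v z₀) • v := ⟨_, rfl⟩
  have hQz : Q z = 0 := by
    rw [hz, quad_sub_smul, hv, mul_zero, add_zero, div_mul_cancel₀ _ hvz₀, sub_self]
  have huz : QuadraticMap.polar (⇑Q) u z = 0 := by
    rw [hz, QuadraticMap.polar_sub_right, QuadraticMap.polar_smul_right, huv, huz₀, smul_zero,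
      sub_zero]
  have hv'z : QuadraticMap.polar (⇑Q) v' z = 0 := by
    rw [hz, QuadraticMap.polar_sub_right, QuadraticMap.polar_smul_right, hv'v, hv'z₀, smul_zero,
      sub_zero]
  have hzv : QuadraticMap.polar (⇑Q) z v ≠ 0 := by
    rw [QuadraticMap.polar_comm, hz, QuadraticMap.polar_sub_right, QuadraticMap.polar_smul_right,
      polar_self_zero Q hv, smul_zero, sub_zero]
    exact hvz₀
  have hzu : QuadraticMap.polar (⇑Q) z u = 0 := by rw [QuadraticMap.polar_comm]; exact huz
  obtain ⟨t, ht⟩ : ∃ t : F, t = -(QuadraticMap.polar (⇑Q) z v)⁻¹ := ⟨_, rfl⟩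
  have ht' : t * QuadraticMap.polar (⇑Q) z v = -1 := by
    rw [ht, neg_mul, inv_mul_cancel₀ hzv]
  obtain ⟨g₁, hg₁⟩ : ∃ g₁ : ↥(Cfsg.isometryGroup F (⇑Q)), g₁ = siegelG Q v' z t hv' hQz hv'z :=
    ⟨_, rfl⟩
  have hg₁m : g₁ ∈ Cfsg.Omega F (⇑Q) := by
    rw [hg₁]
    exact siegelSub_le_omega Q hQ h5 (siegelG_mem Q _ _ _ _ _ _)
  have e1 : ((g₁ : Matrix.GeneralLinearGroup ι F) : Matrix ι ι F) *ᵥ u = u := by
    rw [hg₁, siegelG_coe, siegel_mulVec, hv'u, hzu]
    simp
  have e2 : ((g₁ : Matrix.GeneralLinearGroup ι F) : Matrix ι ι F) *ᵥ v = v + v' := by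
    rw [hg₁, siegelG_coe, siegel_mulVec, hv'v, ht']
    simp
  have hQvv' : Q (v + v') = 0 := by
    rw [QuadraticMap.map_add (⇑Q), hv, hv', hvv']
    simp
  have huvv' : QuadraticMap.polar (⇑Q) u (v + v') = 0 := by
    rw [QuadraticMap.polar_add_right, huv, huv', add_zero]
  have key : g₁ * siegelG Q u v c hu hv huv * g₁⁻¹
      = siegelG Q u (v + v') c hu hQvv' huvv' := by
    apply isomG_ext
    rw [isomG_mul_coe, isomG_mul_coe, siegelG_coe, siegelG_coe, siegel_conj, e1, e2]
  refine ⟨g₁, siegelG Q u v c hu hv huv, hg₁m,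
    siegelSub_le_omega Q hQ h5 (siegelG_mem Q _ _ _ _ _ _), ?_⟩
  rw [key, siegelG_inv]
  apply isomG_ext
  rw [isomG_mul_coe, siegelG_coe, siegelG_coe, siegelG_coe]
  apply Matrix.mulVec_injective
  funext x
  rw [← Matrix.mulVec_mulVec, siegel_eq_eich Q u v (-c) hv, siegel_eq_eich Q u (v + v') c hQvv',
    siegel_eq_eich Q u v' c hv', eich_add Q u _ _ hu]
  · congr 1
    rw [smul_add, neg_smul]
    abel
  · rw [QuadraticMap.polar_smul_right, huvv', smul_zero]
  · rw [QuadraticMap.polar_smul_right, huv, smul_zero]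

end CommGen

section MainGen

variable {ι : Type} [Fintype ι] [DecidableEq ι] {F : Type*} [Field F] [Fintype F]
variable (Q : QuadraticForm F (ι → F))

attribute [local instance] omegaAct omegaSMul

/-- The Iwasawa structure given by the Eichler groups. -/
noncomputable def omegaIwasawa_gen (hgen : Cfsg.Omega F (⇑Q) = siegelSub Q)
    (hQ : (QuadraticMap.polarBilin Q).Nondegenerate) (h5 : 5 ≤ Fintype.card ι) :
    MulAction.IwasawaStructure ↥(Cfsg.Omega F (⇑Q)) ↥(singPts Q) where
  T p := (eichSub Q (p : ℙ F (ι → F)).rep).subgroupOf (Cfsg.Omega F (⇑Q))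
  is_comm p := by
    refine ⟨⟨fun a b => ?_⟩⟩
    apply Subtype.ext
    apply Subtype.ext
    exact eichSub_comm Q _ p.2 _ _ (Subgroup.mem_subgroupOf.1 a.2) (Subgroup.mem_subgroupOf.1 b.2)
  is_conj g p := by
    ext h
    rw [Subgroup.mem_pointwise_smul_iff_inv_smul_mem, MulAut.smul_def, ← map_inv,
      MulAut.conj_apply, inv_inv, Subgroup.mem_subgroupOf, Subgroup.mem_subgroupOf]
    obtain ⟨a, ha0, ha⟩ := smul_rep Q (g : ↥(Cfsg.isometryGroup F (⇑Q))) p
    have e : ((g • p : ↥(singPts Q)) : ℙ F (ι → F)).rep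
        = a • (((g : ↥(Cfsg.isometryGroup F (⇑Q))) : Matrix.GeneralLinearGroup ι F) :
          Matrix ι ι F) *ᵥ (p : ℙ F (ι → F)).rep := ha
    have hgu : Q ((((g : ↥(Cfsg.isometryGroup F (⇑Q))) : Matrix.GeneralLinearGroup ι F) :
        Matrix ι ι F) *ᵥ (p : ℙ F (ι → F)).rep) = 0 := by
      rw [isomG_map]; exact p.2
    rw [e, eichSub_smul Q a ha0 _ hgu, eichSub_conj Q _ _ _ p.2]
    rfl
  is_generator := by
    rw [eq_top_iff]
    have key : ∀ x ∈ siegelSub Q, ∀ hx : x ∈ Cfsg.Omega F (⇑Q),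
        (⟨x, hx⟩ : ↥(Cfsg.Omega F (⇑Q))) ∈ ⨆ p : ↥(singPts Q),
          (eichSub Q (p : ℙ F (ι → F)).rep).subgroupOf (Cfsg.Omega F (⇑Q)) := by
      intro x hx
      unfold siegelSub at hx
      induction hx using Subgroup.closure_induction with
      | mem x hx =>
        intro hxo
        obtain ⟨u, v, c, hu, hv, huv, hm⟩ := hx
        by_cases hu0 : u = 0
        · have e : (⟨x, hxo⟩ : ↥(Cfsg.Omega F (⇑Q))) = 1 := by
            apply Subtype.ext
            apply isomG_ext
            have h3 := siegel_dep_left Q 0 v c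
            rw [zero_smul] at h3
            rw [hm, hu0, h3]
            rfl
          rw [e]
          exact one_mem _
        · apply Subgroup.mem_iSup_of_mem (mkPt Q u hu0 hu)
          rw [Subgroup.mem_subgroupOf]
          obtain ⟨a, ha0, ha⟩ := mkPt_rep Q u hu0 hu
          rw [ha, eichSub_smul Q a ha0 u hu, mem_eichSub Q u hu]
          refine ⟨c • v, ?_, fun y => ?_⟩
          · rw [QuadraticMap.polar_smul_right, huv, smul_zero]
          · show ((x : Matrix.GeneralLinearGroup ι F) : Matrix ι ι F) *ᵥ y = _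
            rw [hm, siegel_eq_eich Q u v c hv]
      | one =>
        intro hxo
        exact one_mem _
      | mul x y hx hy ihx ihy =>
        intro hxo
        have hx' : x ∈ Cfsg.Omega F (⇑Q) := siegelSub_le_omega Q hQ h5 hx
        have hy' : y ∈ Cfsg.Omega F (⇑Q) := siegelSub_le_omega Q hQ h5 hy
        exact mul_mem (ihx hx') (ihy hy')
      | inv x hx ihx =>
        intro hxo
        have hx' : x ∈ Cfsg.Omega F (⇑Q) := siegelSub_le_omega Q hQ h5 hx
        exact inv_mem (ihx hx')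
    intro g _
    have hg : (g : ↥(Cfsg.isometryGroup F (⇑Q))) ∈ siegelSub Q := by
      rw [← hgen]
      exact g.2
    exact key g hg g.2

/-- The commutator subgroup is perfect (generic form). -/
theorem omega_perfect_gen (hgen : Cfsg.Omega F (⇑Q) = siegelSub Q) (hQ : (QuadraticMap.polarBilin Q).Nondegenerate)
    (hsing : ∀ v : Fin 4 → (ι → F), ∃ x : ι → F, x ≠ 0 ∧ Q x = 0 ∧
      ∀ i, QuadraticMap.polar (⇑Q) (v i) x = 0) (h7 : 7 ≤ Fintype.card ι) :
    commutator ↥(Cfsg.Omega F (⇑Q)) = ⊤ := by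
  have h5 : 5 ≤ Fintype.card ι := by omega
  rw [eq_top_iff]
  have key : ∀ x ∈ siegelSub Q, ∀ hx : x ∈ Cfsg.Omega F (⇑Q),
      (⟨x, hx⟩ : ↥(Cfsg.Omega F (⇑Q))) ∈ commutator ↥(Cfsg.Omega F (⇑Q)) := by
    intro x hx
    unfold siegelSub at hx
    induction hx using Subgroup.closure_induction with
    | mem x hx =>
      intro hxo
      obtain ⟨u, v, c, hu, hv, huv, hm⟩ := hx
      obtain ⟨g₁, g₂, hg₁, hg₂, h3⟩ := siegel_is_commutator_gen Q hQ hsing h5 u v c hu hv huv
      have e : (⟨x, hxo⟩ : ↥(Cfsg.Omega F (⇑Q)))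
          = ⁅(⟨g₁, hg₁⟩ : ↥(Cfsg.Omega F (⇑Q))), (⟨g₂, hg₂⟩ : ↥(Cfsg.Omega F (⇑Q)))⁆ := by
        apply Subtype.ext
        rw [commutatorElement_def]
        show x = g₁ * g₂ * g₁⁻¹ * g₂⁻¹
        rw [← h3]
        apply isomG_ext
        rw [hm, siegelG_coe]
      rw [e, commutator_def]
      exact Subgroup.commutator_mem_commutator (Subgroup.mem_top _) (Subgroup.mem_top _)
    | one =>
      intro hxo
      exact one_mem _
    | mul x y hx hy ihx ihy =>
      intro hxo
      have hx' : x ∈ Cfsg.Omega F (⇑Q) := siegelSub_le_omega Q hQ h5 hx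
      have hy' : y ∈ Cfsg.Omega F (⇑Q) := siegelSub_le_omega Q hQ h5 hy
      exact mul_mem (ihx hx') (ihy hy')
    | inv x hx ihx =>
      intro hxo
      have hx' : x ∈ Cfsg.Omega F (⇑Q) := siegelSub_le_omega Q hQ h5 hx
      exact inv_mem (ihx hx')
  intro g _
  have hg : (g : ↥(Cfsg.isometryGroup F (⇑Q))) ∈ siegelSub Q := by
    rw [← hgen]
    exact g.2
  exact key g hg g.2

/-- A normal subgroup of the commutator subgroup fixing every singular point is central. -/
theorem omega_central_of_fix_gen (hgen : Cfsg.Omega F (⇑Q) = siegelSub Q) (hQ : (QuadraticMap.polarBilin Q).Nondegenerate)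
    (h5 : 5 ≤ Fintype.card ι) (N : Subgroup ↥(Cfsg.Omega F (⇑Q))) [hN : N.Normal]
    (hfix : ∀ n ∈ N, ∀ p : ↥(singPts Q), n • p = p) :
    N ≤ Subgroup.center ↥(Cfsg.Omega F (⇑Q)) := by
  intro n hn
  rw [Subgroup.mem_center_iff]
  have key : ∀ x ∈ siegelSub Q,
      x * (n : ↥(Cfsg.isometryGroup F (⇑Q))) = (n : ↥(Cfsg.isometryGroup F (⇑Q))) * x := by
    intro x hx
    unfold siegelSub at hx
    induction hx using Subgroup.closure_induction with
    | mem x hx =>
      obtain ⟨u, v, c, hu, hv, huv, hm⟩ := hx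
      have ex : x = siegelG Q u v c hu hv huv := isomG_ext Q (by rw [hm, siegelG_coe])
      have hxo : x ∈ Cfsg.Omega F (⇑Q) := by
        rw [ex]
        exact siegelSub_le_omega Q hQ h5 (siegelG_mem Q _ _ _ _ _ _)
      have hcm : n * ⟨x, hxo⟩ * n⁻¹ * (⟨x, hxo⟩ : ↥(Cfsg.Omega F (⇑Q)))⁻¹ ∈ N := by
        have h3 := hN.conj_mem n⁻¹ (N.inv_mem hn) ⟨x, hxo⟩
        have h4 := N.mul_mem hn h3
        rw [← mul_assoc, ← mul_assoc] at h4
        exact h4
      rw [ex]
      symm
      apply comm_siegel_of_fix Q hQ (n : ↥(Cfsg.isometryGroup F (⇑Q))) u v c hu hv huv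
      · exact fix_vec_of_fix_pts Q _ (fun p => hfix n hn p)
      · have h6 := fix_vec_of_fix_pts Q _ (fun p => hfix _ hcm p)
        rw [← ex]
        exact h6
    | one => rw [one_mul, mul_one]
    | mul x y _ _ ihx ihy => rw [mul_assoc, ihy, ← mul_assoc, ihx, mul_assoc]
    | inv x _ ihx =>
      rw [eq_mul_inv_iff_mul_eq, mul_assoc, ← ihx, ← mul_assoc, inv_mul_cancel, one_mul]
  intro g
  have hg : (g : ↥(Cfsg.isometryGroup F (⇑Q))) ∈ siegelSub Q := by
    rw [← hgen]
    exact g.2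
  apply Subtype.ext
  exact key g hg

/-- A normal subgroup of the commutator subgroup is central or everything. -/
theorem omega_normal_central_or_top_gen (hgen : Cfsg.Omega F (⇑Q) = siegelSub Q)
    (hQ : (QuadraticMap.polarBilin Q).Nondegenerate) (hsing : ∀ v : Fin 4 → (ι → F), ∃ x : ι → F, x ≠ 0 ∧ Q x = 0 ∧
      ∀ i, QuadraticMap.polar (⇑Q) (v i) x = 0)
    (h7 : 7 ≤ Fintype.card ι) (N : Subgroup ↥(Cfsg.Omega F (⇑Q))) [N.Normal] :
    N ≤ Subgroup.center ↥(Cfsg.Omega F (⇑Q)) ∨ N = ⊤ := by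
  have h5 : 5 ≤ Fintype.card ι := by omega
  have := omega_preprimitive Q hQ h5
  by_cases hfix : MulAction.fixedPoints N ↥(singPts Q) = Set.univ
  · left
    apply omega_central_of_fix_gen Q hgen hQ h5 N
    intro n hn p
    have hp : p ∈ MulAction.fixedPoints N ↥(singPts Q) := by
      rw [hfix]; exact Set.mem_univ p
    exact hp ⟨n, hn⟩
  · right
    have h3 := (omegaIwasawa_gen Q hgen hQ h5).commutator_le N hfix
    rw [omega_perfect_gen Q hgen hQ hsing h7] at h3
    exact top_le_iff.mp h3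

/-- **Simplicity** (generic form): if the commutator subgroup of the isometry group is generated
by the long root elements and singular vectors orthogonal to four given vectors exist, then in
dimension at least seven its quotient by its centre is simple. -/
theorem pomega_simple_gen (hgen : Cfsg.Omega F (⇑Q) = siegelSub Q)
    (hQ : (QuadraticMap.polarBilin Q).Nondegenerate)
    (hsing : ∀ v : Fin 4 → (ι → F), ∃ x : ι → F, x ≠ 0 ∧ Q x = 0 ∧
      ∀ i, QuadraticMap.polar (⇑Q) (v i) x = 0) (h7 : 7 ≤ Fintype.card ι) :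
    IsSimpleGroup (Cfsg.POmega F (⇑Q)) := by
  have h5 : 5 ≤ Fintype.card ι := by omega
  have hperf := omega_perfect_gen Q hgen hQ hsing h7
  have key := fun (N : Subgroup ↥(Cfsg.Omega F (⇑Q))) (hN : N.Normal) =>
    @omega_normal_central_or_top_gen ι _ _ F _ _ Q hgen hQ hsing h7 N hN
  have hnt : Nontrivial (Cfsg.POmega F (⇑Q)) := by
    by_contra hnt
    rw [not_nontrivial_iff_subsingleton] at hnt
    have hcen : Subgroup.center ↥(Cfsg.Omega F (⇑Q)) = ⊤ := by
      rw [eq_top_iff]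
      intro g _
      have h1 : (QuotientGroup.mk g : Cfsg.POmega F (⇑Q)) = 1 := Subsingleton.elim _ _
      exact (QuotientGroup.eq_one_iff g).mp h1
    have hbot := (commutator_eq_bot_iff_center_eq_top _).mpr hcen
    rw [hperf] at hbot
    -- two distinct singular points
    obtain ⟨u, hu0, hu, -⟩ := hsing (fun _ => 0)
    obtain ⟨z, hz, huz, -⟩ := exists_sing_not_perp Q hQ h5 u u hu0 hu0 hu hu
    have hz0 : z ≠ 0 := by
      rintro rfl
      exact huz (by simp)
    have hpt := omega_pretransitive Q hQ h5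
    obtain ⟨g, hg⟩ := MulAction.exists_smul_eq ↥(Cfsg.Omega F (⇑Q)) (mkPt Q u hu0 hu)
      (mkPt Q z hz0 hz)
    have hg1 : g = 1 := by
      have h3 : g ∈ (⊤ : Subgroup ↥(Cfsg.Omega F (⇑Q))) := Subgroup.mem_top g
      rw [hbot] at h3
      exact Subgroup.mem_bot.mp h3
    rw [hg1, one_smul] at hg
    have h4 := congrArg (fun x : ↥(singPts Q) => (x : ℙ F (ι → F))) hg
    simp only [mkPt] at h4
    rw [Projectivization.mk_eq_mk_iff'] at h4
    obtain ⟨a, ha⟩ := h4
    apply huz
    rw [← ha, QuadraticMap.polar_smul_left, QuadraticMap.polar_comm, polar_self_zero Q hz,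
      smul_zero]
  refine ⟨fun K hK => ?_⟩
  rcases key (K.comap (QuotientGroup.mk' (Subgroup.center ↥(Cfsg.Omega F (⇑Q)))))
    inferInstance with h1 | h1
  · left
    rw [eq_bot_iff]
    intro k hk
    obtain ⟨g, rfl⟩ := QuotientGroup.mk_surjective k
    rw [Subgroup.mem_bot]
    exact (QuotientGroup.eq_one_iff g).mpr (h1 hk)
  · right
    rw [eq_top_iff]
    intro k _
    obtain ⟨g, rfl⟩ := QuotientGroup.mk_surjective k
    have h2' : g ∈ K.comap (QuotientGroup.mk' (Subgroup.center ↥(Cfsg.Omega F (⇑Q)))) := by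
      rw [h1]; exact Subgroup.mem_top g
    exact h2'

end MainGen

end Cfsg.Agent.Lib.Helper3
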