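import Mathlib
import Cfsg.Agent.Lib.Helper3.Embed
import Cfsg.Agent.Lib.Helper3.SylowCard

set_option autoImplicit false
open Pointwise

namespace Cfsg.Agent.Lib.Helper3

variable {G : Type*} [Group G]

/-- In a simple group a proper nontrivial Sylow subgroup is not unique. -/
theorem card_sylow_ne_one_of_simple [Finite G] [IsSimpleGroup G] {p : ℕ} [Fact p.Prime]
    (P : Sylow p G) (h1 : (P : Subgroup G) ≠ ⊥) (h2 : (P : Subgroup G) ≠ ⊤) :
    Nat.card (Sylow p G) ≠ 1 := by
  intro h
  have hsub : Subsingleton (Sylow p G) := (Nat.card_eq_one_iff_unique.mp h).1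
  have hPn : (P : Subgroup G).Normal := Sylow.normal_of_subsingleton P
  rcases hPn.eq_bot_or_eq_top with h3 | h3
  · exact h1 h3
  · exact h2 h3

/-- In a simple group with more than one Sylow `p`-subgroup, `|G| ≤ (n_p)!`. -/
theorem card_le_factorial_card_sylow [Finite G] [IsSimpleGroup G] {p : ℕ} [Fact p.Prime]
    (h : Nat.card (Sylow p G) ≠ 1) : Nat.card G ≤ Nat.factorial (Nat.card (Sylow p G)) := by
  obtain ⟨P⟩ : Nonempty (Sylow p G) := inferInstance
  have h1 : Nat.card (Sylow p G) = (Subgroup.normalizer ((P : Subgroup G) : Set G)).index :=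
    P.card_eq_index_normalizer
  rw [h1]
  apply card_le_factorial_index_of_simple
  intro htop
  rw [htop, Subgroup.index_top] at h1
  exact h h1

/-- If the Sylow `p`-subgroups have order `p`, there are at least `n_p (p - 1)` elements of
order `p`. -/
theorem card_sylow_mul_le [Finite G] {p : ℕ} [hp : Fact p.Prime]
    (hP : ∀ P : Sylow p G, Nat.card P = p) :
    Nat.card (Sylow p G) * (p - 1) ≤ Nat.card {g : G // orderOf g = p} := by
  classical
  have hord : ∀ (P : Sylow p G) (g : (P : Subgroup G)), g ≠ 1 → orderOf (g : G) = p := by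
    intro P g hg
    have hd : orderOf g ∣ p := by
      have := orderOf_dvd_natCard g
      rw [hP P] at this; exact this
    rw [Subgroup.orderOf_coe]
    rcases (Nat.dvd_prime hp.out).mp hd with h | h
    · exact absurd (orderOf_eq_one_iff.mp h) hg
    · exact h
  have hgen : ∀ (P : Sylow p G) (g : (P : Subgroup G)), g ≠ 1 →
      Subgroup.zpowers (g : G) = (P : Subgroup G) := by
    intro P g hg
    apply Subgroup.eq_of_le_of_card_ge (Subgroup.zpowers_le.mpr g.2)
    rw [Nat.card_zpowers, hord P g hg, hP P]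
  let f : (Σ P : Sylow p G, {g : (P : Subgroup G) // g ≠ 1}) → {g : G // orderOf g = p} :=
    fun σ => ⟨(σ.2.1 : G), hord σ.1 σ.2.1 σ.2.2⟩
  have hf : Function.Injective f := by
    rintro ⟨P, g⟩ ⟨P', g'⟩ h
    have h1 : ((g.1 : (P : Subgroup G)) : G) = ((g'.1 : (P' : Subgroup G)) : G) :=
      congrArg Subtype.val h
    have hPP : P = P' := by
      apply Sylow.ext
      rw [← hgen P g.1 g.2, ← hgen P' g'.1 g'.2, h1]
    subst hPP
    have : g = g' := Subtype.ext (Subtype.ext h1)
    rw [this]
  have h1 := Nat.card_le_card_of_injective f hf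
  have : Fintype (Sylow p G) := Fintype.ofFinite _
  rw [Nat.card_sigma] at h1
  have h2 : ∀ P : Sylow p G, Nat.card {g : (P : Subgroup G) // g ≠ 1} = p - 1 := by
    intro P
    have e := Equiv.optionSubtypeNe (1 : (P : Subgroup G))
    have h3 := Nat.card_congr e
    rw [hP P] at h3
    have h4 : Nat.card (Option {g : (P : Subgroup G) // g ≠ 1}) =
        Nat.card {g : (P : Subgroup G) // g ≠ 1} + 1 := by simp
    omega
  rw [Finset.sum_congr rfl (fun P _ => h2 P), Finset.sum_const, Finset.card_univ, smul_eq_mul,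
    ← Nat.card_eq_fintype_card] at h1
  exact h1

end Cfsg.Agent.Lib.Helper3
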