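import Mathlib
import Cfsg.Agent.Lib.Helper3.Embed
import Cfsg.Agent.Lib.Helper3.SylowCard
import Cfsg.Agent.Lib.Helper3.SmallSimple

set_option autoImplicit false

namespace Cfsg.Agent.Lib.Helper3

/-- A simple group of order 60 is the alternating group of degree 5. -/
theorem simple_sixty_equiv_alt {G : Type*} [Group G] [Finite G] [IsSimpleGroup G]
    (h : Nat.card G = 60) : Nonempty (G ≃* alternatingGroup (Fin 5)) := by
  classical
  have : Fact (Nat.Prime 2) := ⟨Nat.prime_two⟩
  obtain ⟨P⟩ : Nonempty (Sylow 2 G) := inferInstance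
  have hG : Nat.card G = 2 ^ 2 * 15 := by rw [h]; norm_num
  have hP4 : Nat.card (P : Subgroup G) = 2 ^ 2 := sylow_card_of P hG (by norm_num)
  set N := Subgroup.normalizer ((P : Subgroup G) : Set G) with hN
  have hPN : (P : Subgroup G) ≤ N := Subgroup.le_normalizer
  have h1 := Subgroup.card_mul_index N
  have h2 : 4 ∣ Nat.card N := by
    have := Subgroup.card_dvd_of_le hPN
    rw [hP4] at this
    exact this
  have hbot : (P : Subgroup G) ≠ ⊥ := by
    intro hb
    rw [hb, Subgroup.card_bot] at hP4
    norm_num at hP4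
  have htop : (P : Subgroup G) ≠ ⊤ := by
    intro ht
    rw [ht, Subgroup.card_top, h] at hP4
    norm_num at hP4
  have hsyl : Nat.card (Sylow 2 G) = N.index := P.card_eq_index_normalizer
  have hne1 : N.index ≠ 1 := by
    rw [← hsyl]
    exact card_sylow_ne_one_of_simple P hbot htop
  have hNtop : N ≠ ⊤ := by
    intro ht
    apply hne1
    rw [ht, Subgroup.index_top]
  have hidx : N.index = 1 ∨ N.index = 3 ∨ N.index = 5 ∨ N.index = 15 := by
    obtain ⟨k, hk⟩ := h2
    rw [hk, h] at h1
    obtain ⟨i, hi⟩ : ∃ i, N.index = i := ⟨_, rfl⟩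
    rw [hi] at h1 ⊢
    have h3 : k * i = 15 := by
      have : 4 * (k * i) = 4 * 15 := by rw [← mul_assoc, h1]
      omega
    have h4 : i ∣ 15 := Dvd.intro_left k h3
    have h5 : i ≤ 15 := Nat.le_of_dvd (by norm_num) h4
    interval_cases i <;> omega
  rcases hidx with h1' | h3' | h5' | h15'
  · exact absurd h1' hne1
  · exfalso
    have h6 := card_le_factorial_index_of_simple N hNtop
    rw [h, h3'] at h6
    norm_num [Nat.factorial] at h6
  · have hinj := toPermHom_injective_of_simple N hNtop
    have hc5 : Nat.card (G ⧸ N) = 5 := h5'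
    let e : (G ⧸ N) ≃ Fin 5 := Finite.equivFinOfCardEq hc5
    let ψ : G →* Equiv.Perm (Fin 5) :=
      (e.permCongrHom).toMonoidHom.comp (MulAction.toPermHom G (G ⧸ N))
    have hψ : Function.Injective ψ := by
      intro a b hab
      apply hinj
      exact e.permCongrHom.injective hab
    have hr1 : Nat.card ψ.range = Nat.card G :=
      (Nat.card_congr (MonoidHom.ofInjective hψ).toEquiv).symm
    have hr2 := Subgroup.card_mul_index ψ.range
    rw [hr1, h, Nat.card_eq_fintype_card (α := Equiv.Perm (Fin 5)), Fintype.card_perm,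
      Fintype.card_fin] at hr2
    have hr3 : ψ.range.index = 2 := by
      have : (5 : ℕ).factorial = 120 := by decide
      rw [this] at hr2
      omega
    have hr4 := Equiv.Perm.eq_alternatingGroup_of_index_eq_two hr3
    exact ⟨(MonoidHom.ofInjective hψ).trans (MulEquiv.subgroupCongr hr4)⟩
  · exfalso
    rw [h, h15'] at h1
    have hN4 : Nat.card N = 2 ^ 2 := by omega
    have hPeq : (P : Subgroup G) = N :=
      Subgroup.eq_of_le_of_card_ge hPN (by rw [hN4, hP4])
    have hcomm := IsPGroup.commutative_of_card_eq_prime_sq (p := 2) hP4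
    have hNC : N ≤ Subgroup.centralizer ((P : Subgroup G) : Set G) := by
      intro n hn
      rw [← hPeq] at hn
      rw [Subgroup.mem_centralizer_iff]
      intro x hx
      have := hcomm ⟨x, hx⟩ ⟨n, hn⟩
      exact congrArg Subtype.val this
    have hcompl := MonoidHom.ker_transferSylow_isComplement' P hNC
    have hcard := hcompl.card_mul_card
    rw [hP4, h] at hcard
    have hK15 : Nat.card (MonoidHom.transferSylow P hNC).ker = 15 := by omega
    rcases (MonoidHom.normal_ker (MonoidHom.transferSylow P hNC)).eq_bot_or_eq_top with hb | ht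
    · rw [hb, Subgroup.card_bot] at hK15
      norm_num at hK15
    · rw [ht, Subgroup.card_top, h] at hK15
      norm_num at hK15

end Cfsg.Agent.Lib.Helper3
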