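import Mathlib
import Cfsg.Prelude.Def_Involutions
import Cfsg.Agent.Lib.Helper3.Dihedral

set_option autoImplicit false
open Pointwise

namespace Cfsg.Agent.Lib.Helper3

variable {G : Type*} [Group G]

theorem mem_map_conj {g x : G} {H : Subgroup G} :
    x ∈ H.map (MulAut.conj g).toMonoidHom ↔ g⁻¹ * x * g ∈ H := by
  rw [Subgroup.mem_map]
  constructor
  · rintro ⟨y, hy, rfl⟩
    have : g⁻¹ * ((MulAut.conj g).toMonoidHom y) * g = y := by
      show g⁻¹ * (g * y * g⁻¹) * g = y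
      group
    rw [this]; exact hy
  · intro h
    refine ⟨g⁻¹ * x * g, h, ?_⟩
    show g * (g⁻¹ * x * g) * g⁻¹ = x
    group

/-- A finite subgroup has odd order iff it contains no involution. -/
theorem odd_card_iff_no_invol [Finite G] (K : Subgroup G) :
    Odd (Nat.card K) ↔ ∀ s ∈ K, orderOf s ≠ 2 := by
  have : Fact (Nat.Prime 2) := ⟨Nat.prime_two⟩
  constructor
  · intro hodd s hs h2
    have hd : orderOf (⟨s, hs⟩ : K) ∣ Nat.card K := orderOf_dvd_natCard _
    rw [Subgroup.orderOf_mk, h2] at hd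
    obtain ⟨j, hj⟩ := hodd
    omega
  · intro h
    by_contra hne
    rw [Nat.not_odd_iff_even] at hne
    obtain ⟨x, hx⟩ := exists_prime_orderOf_dvd_card' (G := K) 2 (even_iff_two_dvd.mp hne)
    apply h x.1 x.2
    rw [Subgroup.orderOf_coe]; exact hx

/-- Strongly embedded, in terms of involutions. -/
theorem stronglyEmbedded_iff [Finite G] (H : Subgroup G) :
    Cfsg.IsStronglyEmbedded H ↔ H ≠ ⊤ ∧ Even (Nat.card H) ∧
      ∀ g : G, g ∉ H → ∀ s ∈ H, orderOf s = 2 → g⁻¹ * s * g ∉ H := by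
  unfold Cfsg.IsStronglyEmbedded
  refine and_congr Iff.rfl (and_congr Iff.rfl ?_)
  constructor
  · intro h g hg s hs hs2 hcon
    have := (odd_card_iff_no_invol _).mp (h g hg) s ⟨hs, mem_map_conj.mpr hcon⟩
    exact this hs2
  · intro h g hg
    rw [odd_card_iff_no_invol]
    intro s hs hs2
    exact h g hg s hs.1 hs2 (mem_map_conj.mp hs.2)

theorem fixed_coset_iff {H : Subgroup G} {t g : G} (ht : orderOf t = 2) :
    t • (g : G ⧸ H) = (g : G ⧸ H) ↔ g⁻¹ * t * g ∈ H := by
  rw [MulAction.Quotient.smul_mk, QuotientGroup.eq]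
  have : (t • g)⁻¹ * g = g⁻¹ * t * g := by
    show (t * g)⁻¹ * g = g⁻¹ * t * g
    rw [mul_inv_rev, invol_inv ht]
  rw [this]

end Cfsg.Agent.Lib.Helper3
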