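import Mathlib

/-!
A Sylow `2`-subgroup of the symmetric group of degree `2 ^ j` is transitive.
-/

set_option autoImplicit false

namespace Cfsg.Agent.Lib.Helper3

open scoped Pointwise

/-- a Sylow `2`-subgroup of `Perm (Fin m)`, `m` a power of `2`, is transitive on `Fin m` -/
theorem sylow_two_perm_transitive (m : ℕ) (hm : ∃ j : ℕ, m = 2 ^ j)
    (T : Sylow 2 (Equiv.Perm (Fin m))) :
    ∀ i k : Fin m, ∃ σ ∈ (T : Subgroup (Equiv.Perm (Fin m))), σ i = k := by
  obtain ⟨j, rfl⟩ := hm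
  -- a transitive `2`-subgroup
  obtain ⟨B, hB2, hBt⟩ : ∃ B : Subgroup (Equiv.Perm (Fin (2 ^ j))), IsPGroup 2 B ∧
      ∀ i k : Fin (2 ^ j), ∃ σ ∈ B, σ i = k := by
    rcases Nat.lt_or_ge (2 ^ j) 2 with hlt | hge
    · refine ⟨⊥, IsPGroup.of_bot, fun i k => ⟨1, Subgroup.one_mem _, ?_⟩⟩
      have h1 : (i : ℕ) = (k : ℕ) := by
        have hi := i.2
        have hk := k.2
        omega
      exact Fin.ext h1
    · have hcyc : (finRotate (2 ^ j)).IsCycle := isCycle_finRotate_of_le hge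
      have hsupp : (finRotate (2 ^ j)).support = Finset.univ :=
        support_finRotate_of_le hge
      have hord : orderOf (finRotate (2 ^ j)) = 2 ^ j := by
        rw [hcyc.orderOf, hsupp, Finset.card_univ, Fintype.card_fin]
      have hpow : (finRotate (2 ^ j)) ^ (2 ^ j) = 1 := by
        have h0 := pow_orderOf_eq_one (finRotate (2 ^ j))
        rw [hord] at h0
        exact h0
      refine ⟨Subgroup.zpowers (finRotate (2 ^ j)), ?_, ?_⟩
      · rintro ⟨g, hg⟩
        obtain ⟨z, rfl⟩ := Subgroup.mem_zpowers_iff.mp hg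
        refine ⟨j, Subtype.ext ?_⟩
        show (finRotate (2 ^ j) ^ z) ^ (2 ^ j) = 1
        rw [← zpow_natCast, ← zpow_mul, mul_comm, zpow_mul, zpow_natCast, hpow, one_zpow]
      · intro i k
        have hi : finRotate (2 ^ j) i ≠ i := by
          rw [← Equiv.Perm.mem_support, hsupp]
          exact Finset.mem_univ i
        have hk : finRotate (2 ^ j) k ≠ k := by
          rw [← Equiv.Perm.mem_support, hsupp]
          exact Finset.mem_univ k
        obtain ⟨e, he⟩ := hcyc.exists_pow_eq hi hk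
        exact ⟨finRotate (2 ^ j) ^ e, Subgroup.pow_mem _ (Subgroup.mem_zpowers _) e, he⟩
  obtain ⟨T', hT'⟩ := hB2.exists_le_sylow
  obtain ⟨c, hc⟩ := MulAction.exists_smul_eq (Equiv.Perm (Fin (2 ^ j))) T' T
  intro i k
  obtain ⟨τ, hτ, hτe⟩ := hBt (c⁻¹ i) (c⁻¹ k)
  refine ⟨c * τ * c⁻¹, ?_, ?_⟩
  · rw [← hc, Sylow.coe_subgroup_smul]
    exact Subgroup.smul_mem_pointwise_smul _ (MulAut.conj c) _ (hT' hτ)
  · show c (τ (c⁻¹ i)) = k
    rw [hτe]
    simp

end Cfsg.Agent.Lib.Helper3
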