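import Mathlib
import Cfsg.Agent.Lib.Helper3.SylowNormalSq

/-!
Generic Sylow transfer for "squares lie in the commutator subgroup": a subgroup `K` of the image
of an injective hom `φ : G →* H` with the order of a Sylow `2`-subgroup of `G`.
-/

set_option autoImplicit false

namespace Cfsg.Agent.Lib.Helper3

open scoped Pointwise

theorem sylow_sq_of_sub {G H : Type*} [Group G] [Group H] [Finite G] (φ : G →* H)
    (hφ : Function.Injective φ) (K : Subgroup H) (hK : K ≤ φ.range)
    (hcard : Nat.card K = 2 ^ (Nat.card G).factorization 2)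
    (hsq : ∀ x ∈ K, x ^ 2 ∈ ⁅K, K⁆) (P : Sylow 2 G) :
    ∀ x : (P : Subgroup G), x ^ 2 ∈ commutator (P : Subgroup G) := by
  classical
  have hmap : (K.comap φ).map φ = K := by
    rw [Subgroup.map_comap_eq]
    exact inf_eq_right.mpr hK
  have hcK : Nat.card (K.comap φ) = Nat.card K := by
    have e := (K.comap φ).equivMapOfInjective φ hφ
    rw [Nat.card_congr e.toEquiv, hmap]
  have hp : IsPGroup 2 (K.comap φ) := IsPGroup.of_card (hcK.trans hcard)
  obtain ⟨P', hP'⟩ := hp.exists_le_sylow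
  have hKP : K.comap φ = (P' : Subgroup G) :=
    Subgroup.eq_of_le_of_card_ge hP' (by rw [P'.card_eq_multiplicity, hcK, hcard])
  have hE : ∀ x ∈ (P' : Subgroup G), x ^ 2 ∈ ⁅(P' : Subgroup G), (P' : Subgroup G)⁆ := by
    rw [← hKP]
    intro x hx
    have h1 := hsq (φ x) hx
    rw [← hmap, ← Subgroup.map_commutator, ← map_pow] at h1
    obtain ⟨w, hw, hwe⟩ := h1
    rw [← hφ hwe]
    exact hw
  obtain ⟨c, hc⟩ := MulAction.exists_smul_eq G P' P
  rw [sq_mem_level]
  intro x hx
  rw [← hc, Sylow.coe_subgroup_smul] at hx ⊢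
  have hmap' : MulAut.conj c • (P' : Subgroup G) =
      (P' : Subgroup G).map (MulAut.conj c).toMonoidHom := rfl
  rw [hmap'] at hx ⊢
  obtain ⟨y, hy, rfl⟩ := hx
  rw [← Subgroup.map_commutator, ← map_pow]
  exact Subgroup.mem_map_of_mem _ (hE y hy)

end Cfsg.Agent.Lib.Helper3
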