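import Mathlib

set_option autoImplicit false

namespace Cfsg.Agent.Lib.Helper3

open RegularWreathProduct
open scoped commutatorElement

section step

variable {D Q : Type*} [Group D] [Group Q]

/-- evaluation of the base part at the coordinate `1`, on the base group of `D ≀ᵣ Q` -/
def wrEv : ↥((rightHom : D ≀ᵣ Q →* Q).ker) →* D where
  toFun w := w.1.left 1
  map_one' := rfl
  map_mul' a b := by
    have ha : a.1.right = 1 := a.2
    show (a.1 * b.1).left 1 = a.1.left 1 * b.1.left 1
    rw [RegularWreathProduct.mul_left, Pi.mul_apply, ha, inv_one, one_mul]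

theorem wr_le (q : Q) (hq : q ≠ 1) (j : ℕ) :
    derivedSeries D j ≤
      ((derivedSeries (D ≀ᵣ Q) (j + 1)).subgroupOf (rightHom : D ≀ᵣ Q →* Q).ker).map wrEv := by
  induction j with
  | zero =>
    intro d _
    classical
    have hq' : q⁻¹ ≠ 1 := by simpa using hq
    have hw : ⁅(⟨Pi.mulSingle 1 d, 1⟩ : D ≀ᵣ Q), (inl q : D ≀ᵣ Q)⁆ ∈ derivedSeries (D ≀ᵣ Q) 1 := by
      rw [derivedSeries_succ, derivedSeries_zero]
      exact Subgroup.commutator_mem_commutator (Subgroup.mem_top _) (Subgroup.mem_top _)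
    have hr : (⁅(⟨Pi.mulSingle 1 d, 1⟩ : D ≀ᵣ Q), (inl q : D ≀ᵣ Q)⁆ : D ≀ᵣ Q).right = 1 := by
      rw [commutatorElement_def]
      simp [RegularWreathProduct.mul_right, RegularWreathProduct.inv_right]
    have hl : (⁅(⟨Pi.mulSingle 1 d, 1⟩ : D ≀ᵣ Q), (inl q : D ≀ᵣ Q)⁆ : D ≀ᵣ Q).left 1 = d := by
      rw [commutatorElement_def]
      simp [RegularWreathProduct.mul_left, RegularWreathProduct.inv_left,
        RegularWreathProduct.mul_right, RegularWreathProduct.inv_right, Pi.mulSingle_eq_of_ne hq']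
    exact ⟨⟨_, hr⟩, hw, hl⟩
  | succ j ih =>
    rw [derivedSeries_succ]
    refine (Subgroup.commutator_mono ih ih).trans ?_
    rw [← Subgroup.map_commutator]
    apply Subgroup.map_mono
    rw [Subgroup.commutator_le]
    intro g₁ h₁ g₂ h₂
    rw [Subgroup.mem_subgroupOf] at h₁ h₂ ⊢
    rw [derivedSeries_succ]
    exact Subgroup.commutator_mem_commutator h₁ h₂

/-- one wreath step raises the derived length -/
theorem wreath_step (q : Q) (hq : q ≠ 1) (j : ℕ) (h : derivedSeries D j ≠ ⊥) :
    derivedSeries (D ≀ᵣ Q) (j + 1) ≠ ⊥ := by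
  intro h0
  apply h
  have h1 := wr_le (D := D) q hq j
  rw [h0, Subgroup.bot_subgroupOf, Subgroup.map_bot] at h1
  exact le_bot_iff.mp h1

end step

universe u

/-- the `(n+1)`-fold iterated wreath product of a nontrivial group has derived length `> n` -/
theorem iter_ne_bot (G : Type u) [Group G] (g : G) (hg : g ≠ 1) :
    ∀ n : ℕ, derivedSeries (IteratedWreathProduct G (n + 1)) n ≠ ⊥
  | 0 => by
    intro h
    have h1 : (RegularWreathProduct.inl g : IteratedWreathProduct G 0 ≀ᵣ G) ∈
        derivedSeries (IteratedWreathProduct G 0 ≀ᵣ G) 0 := by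
      rw [derivedSeries_zero]; exact Subgroup.mem_top _
    have h2 : (RegularWreathProduct.inl g : IteratedWreathProduct G 0 ≀ᵣ G) = 1 := by
      have h3 : derivedSeries (IteratedWreathProduct G 0 ≀ᵣ G) 0 = ⊥ := h
      rw [h3, Subgroup.mem_bot] at h1
      exact h1
    apply hg
    have h4 := congrArg RegularWreathProduct.right h2
    exact h4
  | n + 1 => wreath_step g hg n (iter_ne_bot G g hg n)

/-- the lower bound for the derived length of a Sylow `p`-subgroup of `S_n` -/
theorem sylow_perm_derived_ne_bot (p : ℕ) [Fact p.Prime] (n : ℕ)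
    (P : Sylow p (Equiv.Perm (Fin n))) (h : 1 ≤ Nat.log p n) :
    derivedSeries ↥(P : Subgroup (Equiv.Perm (Fin n))) (Nat.log p n - 1) ≠ ⊥ := by
  classical
  have hp : p.Prime := Fact.out
  obtain ⟨k, hk⟩ : ∃ k, Nat.log p n = k + 1 := ⟨Nat.log p n - 1, by omega⟩
  rw [hk, Nat.add_sub_cancel]
  have hn0 : n ≠ 0 := by
    rintro rfl
    simp at h
  have hle : p ^ (k + 1) ≤ n := by
    rw [← hk]; exact Nat.pow_log_le_self p hn0
  have hGcard : Nat.card (Multiplicative (ZMod p)) = p := by
    rw [Nat.card_eq_fintype_card, Fintype.card_multiplicative, ZMod.card]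
  have hg : (Multiplicative.ofAdd (1 : ZMod p) : Multiplicative (ZMod p)) ≠ 1 := by
    intro h1
    have h2 : (1 : ZMod p) = 0 := by simp at h1
    have : Fact (1 < p) := ⟨hp.one_lt⟩
    exact one_ne_zero h2
  have hW : Nat.card (IteratedWreathProduct (Multiplicative (ZMod p)) (k + 1)) =
      p ^ (∑ i ∈ Finset.range (k + 1), p ^ i) := by
    rw [IteratedWreathProduct.card, hGcard]
  have hcard : Fintype.card (Fin (k + 1) → Multiplicative (ZMod p)) ≤ Fintype.card (Fin n) := by
    rw [Fintype.card_fin, Fintype.card_fun, Fintype.card_fin, Fintype.card_multiplicative,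
      ZMod.card]
    exact hle
  obtain ⟨ι⟩ := Function.Embedding.nonempty_of_card_le hcard
  have hf : Function.Injective ((Equiv.Perm.viaEmbeddingHom ι).comp
      (iteratedWreathToPermHom (Multiplicative (ZMod p)) (k + 1))) :=
    (Equiv.Perm.viaEmbeddingHom_injective ι).comp
      (iteratedWreathToPermHomInj (Multiplicative (ZMod p)) (k + 1))
  have hpg : IsPGroup p ((Equiv.Perm.viaEmbeddingHom ι).comp
      (iteratedWreathToPermHom (Multiplicative (ZMod p)) (k + 1))).range :=
    IsPGroup.of_surjective (IsPGroup.of_card hW) _ (MonoidHom.rangeRestrict_surjective _)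
  obtain ⟨S, hS⟩ := hpg.exists_le_sylow
  obtain ⟨c, hc⟩ := MulAction.exists_smul_eq (Equiv.Perm (Fin n)) S P
  have hmem : ∀ w : IteratedWreathProduct (Multiplicative (ZMod p)) (k + 1),
      ((MulAut.conj c).toMonoidHom.comp ((Equiv.Perm.viaEmbeddingHom ι).comp
        (iteratedWreathToPermHom (Multiplicative (ZMod p)) (k + 1)))) w ∈
        (P : Subgroup (Equiv.Perm (Fin n))) := by
    intro w
    have h1 : ((Equiv.Perm.viaEmbeddingHom ι).comp
        (iteratedWreathToPermHom (Multiplicative (ZMod p)) (k + 1))) w ∈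
        (S : Subgroup (Equiv.Perm (Fin n))) := hS ⟨w, rfl⟩
    have h2 := Subgroup.smul_mem_pointwise_smul _ (MulAut.conj c) _ h1
    rw [← hc, Sylow.coe_subgroup_smul]
    exact h2
  have hψ : Function.Injective (((MulAut.conj c).toMonoidHom.comp
      ((Equiv.Perm.viaEmbeddingHom ι).comp
        (iteratedWreathToPermHom (Multiplicative (ZMod p)) (k + 1)))).codRestrict
          (P : Subgroup (Equiv.Perm (Fin n))) hmem) := by
    rw [MonoidHom.injective_codRestrict]
    exact (MulAut.conj c).injective.comp hf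
  obtain ⟨ψ, hψi⟩ : ∃ ψ : IteratedWreathProduct (Multiplicative (ZMod p)) (k + 1) →*
      ↥(P : Subgroup (Equiv.Perm (Fin n))), Function.Injective ψ := ⟨_, hψ⟩
  have key := map_derivedSeries_le_derivedSeries ψ k
  intro h0
  rw [h0, le_bot_iff] at key
  apply iter_ne_bot (Multiplicative (ZMod p)) _ hg k
  rw [eq_bot_iff]
  intro x hx
  have hx' := Subgroup.mem_map_of_mem ψ hx
  rw [key, Subgroup.mem_bot] at hx'
  rw [Subgroup.mem_bot]
  exact hψi (hx'.trans (map_one ψ).symm)

end Cfsg.Agent.Lib.Helper3
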